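import Cfsg.Agent.BinaryAffine.Plane
import Mathlib.FieldTheory.Finite.GaloisField
import Mathlib.Algebra.Ring.Subring.Basic
import Mathlib.RingTheory.IntegralDomain

/-!
Binary linear groups whose largest fixed spaces equal the images: the field and the semilinear description.
-/

set_option autoImplicit false
set_option linter.unusedSectionVars false
set_option linter.style.haveILetI false

namespace Cfsg.Lib.BinaryAffine

variable {H : Type*} [Group H] [Finite H] {V : Type*} [AddCommGroup V] [Finite V]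
variable {φ : H →* AddMonoid.End V} {h : H}

theorem end_mul_apply (a b : AddMonoid.End V) (v : V) : (a * b) v = a (b v) := rfl

theorem Plane.gen_comm (P : Plane φ h) : ∀ x ∈ φ '' (P.rot : Set H), ∀ y ∈ φ '' (P.rot : Set H), x * y = y * x := by
  rintro _ ⟨a, ha, rfl⟩ _ ⟨b, hb, rfl⟩
  rw [← map_mul, ← map_mul, P.rot_comm ha hb]

/-- the ring spanned by the rotations -/
def Plane.ring (P : Plane φ h) : Subring (AddMonoid.End V) := Subring.closure (φ '' (P.rot : Set H))

instance Plane.ringFinite (P : Plane φ h) : Finite P.ring :=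
  haveI : Finite (AddMonoid.End V) := Finite.of_injective _ DFunLike.coe_injective
  inferInstance

variable (P : Plane φ h)

theorem Plane.ring_comm (r s : P.ring) : r * s = s * r :=
  letI := Subring.closureCommRingOfComm P.gen_comm
  mul_comm (G := Subring.closure (φ '' (P.rot : Set H))) r s

theorem Plane.mem_ring {g : H} (hg : g ∈ P.rot) : φ g ∈ P.ring := Subring.subset_closure ⟨g, hg, rfl⟩

theorem Plane.ring_ker {r : P.ring} (hr : r ≠ 0) {v : V} (hv : (r : AddMonoid.End V) v = 0) : v = 0 := by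
  rcases P.rot_irr ((r : AddMonoid.End V) : V →+ V).ker (fun g hg w hw => by
    show (r : AddMonoid.End V) (φ g w) = 0
    have h1 := DFunLike.congr_fun (congrArg Subtype.val (P.ring_comm r ⟨φ g, P.mem_ring hg⟩)) w
    calc (r : AddMonoid.End V) (φ g w) = φ g ((r : AddMonoid.End V) w) := h1
      _ = 0 := by rw [show (r : AddMonoid.End V) w = 0 from hw, map_zero]) with h1 | h1
  · have : v ∈ ((r : AddMonoid.End V) : V →+ V).ker := hv
    rwa [h1, AddSubgroup.mem_bot] at this
  · refine absurd (Subtype.ext (DFunLike.ext (F := AddMonoid.End V) _ _ fun w => ?_)) hr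
    exact (h1.ge (AddSubgroup.mem_top w) : w ∈ ((r : AddMonoid.End V) : V →+ V).ker)

include P in
theorem Plane.exists_fixed : ∃ v : V, v ≠ 0 ∧ φ h v = v := by
  by_contra hcon
  push Not at hcon
  exact P.ne (eq_bot_iff.2 fun v hv => by
    by_contra hv0
    exact hcon v hv0 (mem_fixV.1 hv))

theorem Plane.isField : IsField P.ring := by
  letI : CommRing P.ring := { (inferInstance : Ring P.ring) with mul_comm := P.ring_comm }
  obtain ⟨v, hv, -⟩ := P.exists_fixed
  haveI : Nontrivial P.ring := ⟨⟨0, 1, fun he => hv (DFunLike.congr_fun (congrArg Subtype.val he) v).symm⟩⟩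
  haveI : NoZeroDivisors P.ring := ⟨fun {r s} hrs => by
    by_contra hcon
    push Not at hcon
    have h1 : (s : AddMonoid.End V) v = 0 := P.ring_ker hcon.1 (DFunLike.congr_fun (congrArg Subtype.val hrs) v)
    exact hv (P.ring_ker hcon.2 h1)⟩
  haveI : IsDomain P.ring := NoZeroDivisors.to_isDomain _
  exact Finite.isField_of_domain P.ring

/-- the evaluation at a vector -/
def Plane.ev (v : V) : P.ring →+ V :=
  AddMonoidHom.mk' (fun r => (r : AddMonoid.End V) v) fun _ _ => rfl

theorem Plane.ev_bijective {v : V} (hv : v ≠ 0) : Function.Bijective (P.ev v) := by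
  refine ⟨(injective_iff_map_eq_zero (P.ev v)).2 fun r hr => by_contra fun h0 => hv (P.ring_ker h0 hr), ?_⟩
  rw [← AddMonoidHom.range_eq_top]
  refine (P.rot_irr (P.ev v).range fun g hg w hw => ?_).resolve_left fun h0 => hv ?_
  · obtain ⟨r, rfl⟩ := hw
    exact ⟨⟨φ g, P.mem_ring hg⟩ * r, rfl⟩
  · have : v ∈ (P.ev v).range := ⟨1, rfl⟩
    rwa [h0, AddSubgroup.mem_bot] at this

include P in
/-- the semilinear description -/
theorem Plane.coords {p : ℕ} [hp : Fact p.Prime] (hchar : ∀ v : V, p • v = 0) :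
    ∃ (F E : Type) (_ : Field F) (_ : Fintype F) (_ : Field E) (_ : Fintype E) (_ : Algebra F E) (e : V ≃+ E),
      Module.finrank F E = 2 ∧
      (∀ g : H, ∃ (a : E) (ψ : E ≃ₐ[F] E), Algebra.norm F a = 1 ∧ ∀ v, e (φ g v) = a * ψ (e v)) ∧
      (∀ (a : E) (ψ : E ≃ₐ[F] E), Algebra.norm F a = 1 → ∃ g : H, ∀ v, e (φ g v) = a * ψ (e v)) := by
  classical
  obtain ⟨v₀, hv₀, hv₀h⟩ := P.exists_fixed
  letI : Field P.ring := P.isField.toField
  haveI := Fintype.ofFinite P.ring
  have hbij := P.ev_bijective hv₀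
  haveI : CharP P.ring p := by
    have h0 : (p : P.ring) = 0 := hbij.1 (by
      rw [← nsmul_one, map_nsmul, map_zero, hchar])
    haveI := ringChar.charP P.ring
    have hc : ringChar P.ring = p :=
      (Nat.prime_dvd_prime_iff_eq (CharP.char_is_prime P.ring (ringChar P.ring)) hp.out).1 (ringChar.dvd h0)
    rw [← hc]
    infer_instance
  set q := Nat.card (imV φ h)
  have hcardR : Nat.card P.ring = q * q := (Nat.card_eq_of_bijective _ hbij).trans P.card_V
  obtain ⟨n, hn⟩ : ∃ n, Nat.card P.ring = p ^ n := by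
    obtain ⟨k, -, hk⟩ := FiniteField.card P.ring p
    exact ⟨k, by rw [Nat.card_eq_fintype_card, hk]⟩
  obtain ⟨w, -, hw⟩ := (Nat.dvd_prime_pow hp.out).1 (Dvd.intro q (hcardR.symm.trans hn) : q ∣ p ^ n)
  have hw0 : w ≠ 0 := fun e => by
    have := P.one_lt
    rw [show Nat.card (imV φ h) = p ^ w from hw, e, pow_zero] at this
    omega
  let E := GaloisField p (w + w)
  let F := GaloisField p w
  haveI : Fintype E := Fintype.ofFinite E
  haveI : Fintype F := Fintype.ofFinite F
  have hcE : Nat.card E = q * q := by rw [GaloisField.card p (w + w) (by omega), hw, pow_add]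
  have hcF : Nat.card F = q := by rw [GaloisField.card p w hw0, hw]
  obtain ⟨f⟩ : Nonempty (F →ₐ[ZMod p] E) := FiniteField.nonempty_algHom_of_finrank_dvd (by
    rw [GaloisField.finrank p hw0, GaloisField.finrank p (by omega : w + w ≠ 0)]
    exact ⟨2, by omega⟩)
  letI : Algebra F E := f.toRingHom.toAlgebra
  have hrank : Module.finrank F E = 2 := by
    have h1 := Module.natCard_eq_pow_finrank (K := F) (V := E)
    rw [hcE, hcF, ← pow_two] at h1
    exact (Nat.pow_right_injective P.one_lt h1).symm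
  let Ψ : P.ring ≃+* E := FiniteField.ringEquivOfCardEq (by
    rw [← Nat.card_eq_fintype_card, ← Nat.card_eq_fintype_card, hcardR, hcE])
  let ev : P.ring ≃+ V := AddEquiv.ofBijective (P.ev v₀) hbij
  let e : V ≃+ E := ev.symm.trans Ψ.toAddEquiv
  have he : ∀ r : P.ring, e ((r : AddMonoid.End V) v₀) = Ψ r := fun r => by
    show Ψ (ev.symm (ev r)) = Ψ r
    rw [AddEquiv.symm_apply_apply]
  have hev : ∀ v, ∃ r : P.ring, (r : AddMonoid.End V) v₀ = v := hbij.2
  -- the rotations
  let R : P.rot →* P.ring :=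
    { toFun := fun g => ⟨φ (g : H), P.mem_ring g.2⟩
      map_one' := Subtype.ext (map_one φ)
      map_mul' := fun a b => Subtype.ext (map_mul φ (a : H) b) }
  have hRinj : Function.Injective R := fun a b hab => Subtype.ext (P.inj (congrArg Subtype.val hab))
  have hRpow : ∀ g : P.rot, R g ^ (q + 1) = 1 := fun g => by
    rw [← map_pow, ← P.card_rot, pow_card_eq_one', map_one]
  have hrot : ∀ (g : H) (hg : g ∈ P.rot) v, e (φ g v) = Ψ (R ⟨g, hg⟩) * e v := fun g hg v => by
    obtain ⟨r, rfl⟩ := hev v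
    rw [he, ← map_mul, ← he]
    rfl
  -- the involution
  have hsig : ∀ (r : AddMonoid.End V) (hr : r ∈ P.ring), φ h * r * φ h = ((⟨r, hr⟩ : P.ring) ^ q : P.ring).1 := by
    intro r hr
    have hhh : φ h * φ h = 1 := by rw [← map_mul, P.mx.sq_one P.bin P.inj, map_one]
    have hq0 : q ≠ 0 := fun e => by have := P.one_lt; omega
    unfold Plane.ring at hr
    induction hr using Subring.closure_induction with
    | mem x hx =>
      obtain ⟨g, hg, rfl⟩ := hx
      have h1 : (R ⟨g, hg⟩) ^ q = R ⟨g⁻¹, inv_mem hg⟩ := by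
        have h2 := hRpow ⟨g, hg⟩
        rw [pow_succ] at h2
        rw [show (⟨g⁻¹, inv_mem hg⟩ : P.rot) = (⟨g, hg⟩ : P.rot)⁻¹ from rfl]
        calc R ⟨g, hg⟩ ^ q = R ⟨g, hg⟩ ^ q * (R ⟨g, hg⟩ * R (⟨g, hg⟩ : P.rot)⁻¹) := by
              rw [← map_mul, mul_inv_cancel, map_one, mul_one]
          _ = R (⟨g, hg⟩ : P.rot)⁻¹ := by rw [← mul_assoc, h2, one_mul]
      calc φ h * φ g * φ h = φ g⁻¹ := by rw [← map_mul, ← map_mul, P.inv_rot hg]
        _ = ((R ⟨g⁻¹, inv_mem hg⟩ : P.ring) : AddMonoid.End V) := rfl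
        _ = _ := by rw [← h1]; rfl
    | zero =>
      rw [show (⟨0, _⟩ : P.ring) = 0 from rfl, zero_pow hq0]
      simp
    | one => rw [show (⟨1, _⟩ : P.ring) = 1 from rfl, one_pow, mul_one, hhh]; rfl
    | add x y hx hy ihx ihy =>
      rw [show (⟨x + y, _⟩ : P.ring) = ⟨x, hx⟩ + ⟨y, hy⟩ from rfl, show q = p ^ w from hw,
        add_pow_char_pow, ← hw, Subring.coe_add, ← ihx, ← ihy, mul_add, add_mul]
    | neg x hx ihx =>
      rw [show (⟨-x, _⟩ : P.ring) = -⟨x, hx⟩ from rfl, show q = p ^ w from hw, ← iterateFrobenius_def, map_neg,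
        iterateFrobenius_def, ← hw, Subring.coe_neg, ← ihx, mul_neg, neg_mul]
    | mul x y hx hy ihx ihy =>
      rw [show (⟨x * y, _⟩ : P.ring) = ⟨x, hx⟩ * ⟨y, hy⟩ from rfl, mul_pow, Subring.coe_mul, ← ihx, ← ihy]
      calc φ h * (x * y) * φ h = φ h * x * (φ h * φ h) * y * φ h := by rw [hhh]; simp only [mul_assoc, one_mul]
        _ = _ := by simp only [mul_assoc]
  have heh : ∀ v, e (φ h v) = e v ^ q := fun v => by
    obtain ⟨r, rfl⟩ := hev v
    rw [he, ← map_pow, ← he, ← hsig r.1 r.2, end_mul_apply, end_mul_apply, hv₀h]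
  -- the Frobenius
  let σ : E ≃ₐ[F] E := FiniteField.frobeniusAlgEquivOfAlgebraic F E
  have hσ : ∀ x : E, σ x = x ^ q := fun x => by
    show x ^ Fintype.card F = _
    rw [← Nat.card_eq_fintype_card, hcF]
  have hnorm : ∀ a : E, Algebra.norm F a = 1 ↔ a ^ (q + 1) = 1 := fun a => by
    rw [← (algebraMap F E).injective.eq_iff, map_one, FiniteField.algebraMap_norm_eq_pow, hcE, hcF]
    have : (q * q - 1) / (q - 1) = q + 1 := by
      have := P.one_lt
      rw [show q * q - 1 = (q + 1) * (q - 1) by rw [← Nat.sq_sub_sq, one_pow, pow_two]]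
      exact Nat.mul_div_cancel _ (by omega)
    rw [this]
  have himage : ∀ a : E, a ^ (q + 1) = 1 → ∃ g : P.rot, Ψ (R g) = a := by
    intro a ha
    haveI := Fintype.ofFinite P.rot
    let S := (Finset.univ : Finset P.rot).image fun g => Ψ (R g)
    have hsub : S ⊆ (Polynomial.nthRoots (q + 1) (1 : E)).toFinset := fun x hx => by
      obtain ⟨g, -, rfl⟩ := Finset.mem_image.1 hx
      rw [Multiset.mem_toFinset, Polynomial.mem_nthRoots (Nat.succ_pos q), ← map_pow, hRpow, map_one]
    have hcard : (Polynomial.nthRoots (q + 1) (1 : E)).toFinset.card ≤ S.card := by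
      rw [Finset.card_image_of_injective (f := fun g => Ψ (R g)) _ (Ψ.injective.comp hRinj), Finset.card_univ,
        ← Nat.card_eq_fintype_card, P.card_rot]
      exact (Multiset.toFinset_card_le _).trans (Polynomial.card_nthRoots _ _)
    have := (Finset.eq_of_subset_of_card_le hsub hcard).ge (Multiset.mem_toFinset.2
      ((Polynomial.mem_nthRoots (Nat.succ_pos q)).2 ha))
    obtain ⟨g, -, hg⟩ := Finset.mem_image.1 this
    exact ⟨g, hg⟩
  have hgal : ∀ ψ : E ≃ₐ[F] E, ψ = 1 ∨ ψ = σ := fun ψ => by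
    obtain ⟨i, hi⟩ := (FiniteField.bijective_frobeniusAlgEquivOfAlgebraic_pow F E).2 ψ
    have h2 := i.2
    simp only [hrank] at h2
    rcases (show (i : ℕ) = 0 ∨ (i : ℕ) = 1 by omega) with h0 | h0 <;> rw [← hi] <;> simp [h0, σ]
  refine ⟨F, E, inferInstance, inferInstance, inferInstance, inferInstance, inferInstance, e, hrank,
    fun g => ?_, fun a ψ ha => ?_⟩
  · rcases P.cases g with hg | hg
    · refine ⟨Ψ (R ⟨g, hg⟩), 1, (hnorm _).2 (by rw [← map_pow, hRpow, map_one]), fun v => ?_⟩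
      rw [hrot g hg]
      rfl
    · have hg' : g * h ∈ P.rot := by
        have h1 := inv_mem hg
        rw [← P.inv_rot hg, ← mul_assoc h h, P.mx.sq_one P.bin P.inj, one_mul] at h1
        exact h1
      refine ⟨Ψ (R ⟨g * h, hg'⟩), σ, (hnorm _).2 (by rw [← map_pow, hRpow, map_one]), fun v => ?_⟩
      rw [hσ, ← heh, ← hrot _ hg', act_mul, P.mx.act_act P.bin P.inj]
  · obtain ⟨k, hk⟩ := himage a ((hnorm a).1 ha)
    rcases hgal ψ with rfl | rfl
    · exact ⟨k, fun v => by rw [hrot (k : H) k.2, ← hk]; rfl⟩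
    · exact ⟨(k : H) * h, fun v => by rw [act_mul, hrot (k : H) k.2, heh, hσ, ← hk]⟩

end Cfsg.Lib.BinaryAffine
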