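import Cfsg.Agent.BinaryAffine.Odd
import Mathlib.LinearAlgebra.Matrix.Charpoly.FiniteField

/-!
Binary linear groups in odd characteristic: no three independent pieces.
-/

set_option autoImplicit false
set_option linter.unusedSectionVars false

namespace Cfsg.Lib.BinaryAffine

variable {H : Type*} [Group H] [Finite H] {V : Type*} [AddCommGroup V] [Finite V]
variable {φ : H →* AddMonoid.End V}

/-- a symmetric relation with no fixed point whose square is everything has an empty trace count -/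
theorem no_polarity {p : ℕ} [Fact p.Prime] (hp : p ≠ 2) {ι : Type*} [Fintype ι] [DecidableEq ι]
    (A : Matrix ι ι (ZMod p)) (hdiag : ∀ i, A i i = 0) (hsq : ∀ i j, (A * A) i j = 1)
    (hcol : ∀ j, ∑ i, A i j = 1) (hN : (Fintype.card ι : ZMod p) = 1) : False := by
  let J : Matrix ι ι (ZMod p) := Matrix.of fun _ _ => 1
  have hJ : A * A = J := Matrix.ext hsq
  have hJA : J * A = J := Matrix.ext fun i j => by simp [J, Matrix.mul_apply, hcol]
  have hJJ : J * J = J := Matrix.ext fun i j => by simp [J, Matrix.mul_apply, hN]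
  obtain ⟨s, hs⟩ := (Fact.out : p.Prime).odd_of_ne_two hp
  have hpow : ∀ n, J ^ (n + 1) = J := fun n => by
    induction n with
    | zero => rw [pow_one]
    | succ n ih => rw [pow_succ, ih, hJJ]
  have hs1 : s ≠ 0 := fun h0 => by
    have := (Fact.out : p.Prime).ne_one
    omega
  obtain ⟨s', rfl⟩ := Nat.exists_eq_succ_of_ne_zero hs1
  have hAp : A ^ p = J := (congrArg (A ^ ·) hs).trans (by
    show A ^ (2 * (s' + 1) + 1) = J
    rw [pow_succ, pow_mul, pow_two, hJ, hpow, hJA])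
  have h1 := ZMod.trace_pow_card A
  rw [hAp, Matrix.trace, Matrix.trace] at h1
  simp [J, hdiag, hN, zero_pow (Fact.out : p.Prime).ne_zero] at h1

variable (o : OddSit φ)
include o

/-- two commuting conjugates have a common non-commuting neighbour -/
theorem OddSit.neighbour {h a : H} (m : Mx φ h) (hne : h ≠ a * h * a⁻¹)
    (hcomm : h * (a * h * a⁻¹) = a * h * a⁻¹ * h) :
    ∃ k, Mx φ k ∧ h * k ≠ k * h ∧ (a * h * a⁻¹) * k ≠ k * (a * h * a⁻¹) := by
  set h' := a * h * a⁻¹
  have m' : Mx φ h' := m.conj a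
  obtain ⟨u, hu, hu0⟩ := m.exists_moved o.inj
  set w := φ a u
  have hw : w ∈ imV φ h' := mem_imV_conj.2 (by simp only [w, act_inv_cancel]; exact hu)
  have hd := m.disjoint o.bin o.inj m' hne
  have huw : φ a u = u + (w - u) := by simp only [w]; abel
  have hc0 : w - u ≠ 0 := fun h0 => hu0 (hd u hu (sub_eq_zero.1 h0 ▸ hw))
  set c := w - u with hc
  set k := o.bin.tel c
  have hku : φ k u = w := by rw [show φ k u = u + c from o.bin.tel_spec huw, hc]; abel
  have hkw : φ k w = u := by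
    have h1 : φ a⁻¹ (-w) = -w + c := by simp only [w, hc, map_neg, act_inv_cancel]; abel
    have h2 := o.bin.tel_spec h1
    rw [map_neg] at h2
    calc φ k w = -(-φ k w) := (neg_neg _).symm
      _ = u := by rw [show -φ k w = -w + c from h2, hc]; abel
  have hcU : c ∈ imV φ h ⊔ imV φ h' :=
    sub_mem (AddSubgroup.mem_sup_right hw) (AddSubgroup.mem_sup_left hu)
  have hFk : fixV φ h ⊓ fixV φ h' ≤ fixV φ k := fun v hv => by
    rw [← o.orth_iff _ hc0]
    exact o.symm (o.sup_le_perp m m' hne hcU v hv)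
  have hsum : u + w ∈ fixV φ k := by rw [mem_fixV, map_add, hku, hkw, add_comm]
  have hwF : φ h w = w := mem_fixV.1 (m.im_le_fix o.bin o.inj m' hne hcomm hw)
  have huF : φ h' u = u := mem_fixV.1 (m'.im_le_fix o.bin o.inj m (Ne.symm hne) hcomm.symm hu)
  have hsum' : u + w ∉ fixV φ h ⊓ fixV φ h' := fun hm => hu0 <| o.eq_zero_of_neg <| by
    have h3 := mem_fixV.1 hm.1
    rw [map_add, hwF, add_left_inj, m.neg_im o.bin o.inj hu] at h3
    exact h3.symm
  obtain ⟨x, g, hx⟩ := (o.tel_neg c).2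
  have mk : Mx φ k := o.mx_of_fix m m' hne (o.bin.tel_ne hc0 hx) hFk hsum hsum'
  have hck : c ∈ imV φ k := mem_imV.2 ⟨x, o.bin.tel_spec hx⟩
  refine ⟨k, mk, fun hk => ?_, fun hk => ?_⟩
  · have hne' : h ≠ k := fun e => hu0 (hd u hu (by
      have h4 := hku
      rw [← e, m.neg_im o.bin o.inj hu] at h4
      rw [← neg_neg u, h4]; exact neg_mem hw))
    have h4 := mem_fixV.1 (m.im_le_fix o.bin o.inj mk hne' hk hck)
    rw [map_sub, hwF, sub_right_inj, m.neg_im o.bin o.inj hu] at h4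
    exact hu0 (o.eq_zero_of_neg h4.symm)
  · have hne' : h' ≠ k := fun e => hu0 (hd u hu (by
      have h4 := hkw
      rw [← e, m'.neg_im o.bin o.inj hw] at h4
      rw [← h4]; exact neg_mem hw))
    have h4 := mem_fixV.1 (m'.im_le_fix o.bin o.inj mk hne' hk hck)
    rw [map_sub, huF, sub_left_inj, m'.neg_im o.bin o.inj hw] at h4
    exact hu0 (hd u hu (by
      have hw0 : w = 0 := o.eq_zero_of_neg h4.symm
      exact absurd (act_inj a (by rw [map_zero]; exact hw0)) hu0))

variable (hirr : Irr φ) {h : H} (m : Mx φ h)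
include hirr m

theorem OddSit.exists_noncomm (hne : fixV φ h ≠ ⊥) : ∃ k, Mx φ k ∧ h * k ≠ k * h := by
  obtain ⟨a, ha⟩ := escape o.inj hirr m hne
  by_cases hc : h * (a * h * a⁻¹) = a * h * a⁻¹ * h
  · obtain ⟨k, mk, hk, -⟩ := o.neighbour m (fun e => ha (by rw [← e])) hc
    exact ⟨k, mk, hk⟩
  · exact ⟨_, m.conj a, hc⟩

omit hirr in
set_option maxHeartbeats 1600000 in
/-- the contradiction from three pieces -/
theorem OddSit.triple_false {p : ℕ} [hp : Fact p.Prime] (hchar : ∀ v : V, p • v = 0) (hp2 : p ≠ 2)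
    {s t : H} (ms : Mx φ s) (mt : Mx φ t) (hs : h * s ≠ s * h) (ht : h * t ≠ t * h)
    (hout : ¬ imV φ t ≤ imV φ h ⊔ imV φ s) : False := by
  classical
  have hhs : h ≠ s := fun e => hs (by subst e; rfl)
  have hht : h ≠ t := fun e => ht (by subst e; rfl)
  set q := Nat.card (imV φ h) with hqdef
  set U := imV φ h ⊔ imV φ s with hU
  have hcU : Nat.card U = q * q := o.card_sup m ms hhs
  have htU : ∀ c ∈ U, c ∈ imV φ t → c = 0 := fun c hc hct => by
    by_contra hc0
    refine hout (o.im_le_pair m ms hhs fun v hv => o.fix_of_orth mt hct hc0 ?_)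
    exact o.symm (o.sup_le_perp m ms hhs hc v hv)
  set X := U ⊔ imV φ t with hX
  have hcX : Nat.card X = q * q * q := by
    rw [hX, card_sup_disjoint htU, hcU, mt.card_im_eq m]
  set F := fixV φ h ⊓ fixV φ s ⊓ fixV φ t with hF
  have hXperp : X ≤ o.perp F := by
    refine sup_le ?_ ?_
    · exact (o.perp_inter m ms hhs).ge.trans (o.perp_anti inf_le_left)
    · exact fun c hc v hv => o.symm (o.orth_im_fix mt hc hv.2)
  have hFV : Nat.card V ≤ Nat.card F * (q * q * q) := by
    calc Nat.card V = Nat.card ↥(fixV φ h ⊓ fixV φ s) * (q * q) := by rw [← mul_assoc, o.card_inter m ms hhs]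
      _ ≤ Nat.card F * Nat.card (imV φ t) * (q * q) := Nat.mul_le_mul_right _ (card_restrict _ t)
      _ = _ := by rw [mt.card_im_eq m]; ring
  have hperp : o.perp F = X := by
    refine (AddSubgroup.eq_of_le_of_card_ge hXperp ?_).symm
    have h1 := card_mul_le (o.perp_disjoint F)
    rw [hcX]
    exact Nat.le_of_mul_le_mul_left (h1.trans hFV) Nat.card_pos
  have hFX : F ⊔ o.perp F = ⊤ :=
    sup_eq_of_card (o.perp_disjoint F) le_top le_top (by rwa [AddSubgroup.card_top, hperp, hcX])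
  -- every vector of `X` is covered
  have hcover : ∀ c ∈ X, c ≠ 0 → ∃ k, Mx φ k ∧ c ∈ imV φ k ∧ imV φ k ≤ X := by
    intro c hc hc0
    suffices ∃ k, Mx φ k ∧ c ∈ imV φ k by
      obtain ⟨k, mk, hk⟩ := this
      refine ⟨k, mk, hk, ?_⟩
      rw [← hperp]
      exact o.im_le_perp hFX fun v hv => o.fix_of_orth mk hk hc0 (o.symm (hperp.ge hc v hv))
    by_contra hun
    push Not at hun
    set W := imV φ h ⊔ imV φ t with hW
    have hWX : W ≤ X := sup_le (le_sup_left.trans le_sup_left) le_sup_right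
    have hcW : c ∉ W := fun hm => hun _ (o.cover m mt hht ht hm hc0).1 (o.cover m mt hht ht hm hc0).2
    have hUW : ∀ v ∈ U, v ∈ W → v ∈ imV φ h := fun v hv hv' => by
      obtain ⟨a, ha, b, hb, rfl⟩ := AddSubgroup.mem_sup.1 hv'
      have hb' : b ∈ U := by
        have := sub_mem hv (AddSubgroup.mem_sup_left (T := imV φ s) ha)
        rwa [add_sub_cancel_left] at this
      rw [htU b hb' hb, add_zero]; exact ha
    -- any second line of `W` leads to the same plane
    have key : ∀ j, Mx φ j → imV φ j ≤ W → j ≠ h →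
        imV φ j ≤ o.perp (fixV φ (o.bin.tel c)) ∧ c ∈ o.perp (fixV φ (o.bin.tel c)) ∧
          Nat.card ↥(o.perp (fixV φ (o.bin.tel c))) = q * q := by
      intro j mj hjW hjh
      have hjU : ∀ v ∈ U, v ∈ imV φ j → v = 0 := fun v hv hvj => by
        by_contra hv0
        exact hjh (mj.eq_of_meet o.bin o.inj m hv0 hvj (hUW v hv (hjW hvj)))
      have hsup : U ⊔ imV φ j = X :=
        sup_eq_of_card hjU le_sup_left (hjW.trans hWX) (by rw [hcX, hcU, mj.card_im_eq m])
      obtain ⟨u, hu, w, hw, huw⟩ := AddSubgroup.mem_sup.1 (hsup.ge hc)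
      have hu0 : u ≠ 0 := fun h0 => hun j mj (by rw [← huw, h0, zero_add]; exact hw)
      have hw0 : w ≠ 0 := fun h0 => hun _ (o.cover m ms hhs hs hu hu0).1
        (by rw [← huw, h0, add_zero]; exact (o.cover m ms hhs hs hu hu0).2)
      obtain ⟨mu, huk⟩ := o.cover m ms hhs hs hu hu0
      set ku := o.bin.tel u
      have hne : ku ≠ j := fun e => hu0 (hjU u hu (e ▸ huk))
      have hcUj : c ∈ imV φ ku ⊔ imV φ j := huw ▸ AddSubgroup.add_mem_sup huk hw
      have hle : fixV φ ku ⊓ fixV φ j ≤ fixV φ (o.bin.tel c) := fun v hv => by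
        rw [← o.orth_iff _ hc0]
        exact o.symm (o.sup_le_perp mu mj hne hcUj v hv)
      by_cases hmore : fixV φ (o.bin.tel c) ≤ fixV φ ku ⊓ fixV φ j
      · rw [le_antisymm hmore hle, o.perp_inter mu mj hne]
        exact ⟨le_sup_right, hcUj, (o.card_sup mu mj hne).trans (by rw [mu.card_im_eq m])⟩
      · exfalso
        obtain ⟨v, hv, hv'⟩ := SetLike.not_le_iff_exists.1 hmore
        obtain ⟨x, g, hx⟩ := (o.tel_neg c).2
        exact hun _ (o.mx_of_fix mu mj hne (o.bin.tel_ne hc0 hx) hle hv hv') (mem_imV.2 ⟨x, o.bin.tel_spec hx⟩)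
    set t' := h * t * h⁻¹
    have mt' : Mx φ t' := mt.conj h
    have ht'W : imV φ t' ≤ W := fun v hv => by
      have h1 := mem_imV_conj.1 hv
      have h2 : φ h (φ h⁻¹ v) - φ h⁻¹ v ∈ imV φ h := ⟨_, rfl⟩
      rw [show v = (φ h (φ h⁻¹ v) - φ h⁻¹ v) + φ h⁻¹ v by rw [act_cancel_inv]; abel]
      exact AddSubgroup.add_mem_sup h2 h1
    have hne' : t ≠ t' := fun e => ht (by
      calc h * t = h * t * h⁻¹ * h := by group
        _ = t * h := by rw [show h * t * h⁻¹ = t from e.symm])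
    have ht'h : t' ≠ h := fun e => hht (by
      calc h = h⁻¹ * h * h := by group
        _ = h⁻¹ * t' * h := by rw [e]
        _ = t := by simp only [t']; group)
    obtain ⟨e1, e2, e3⟩ := key t mt le_sup_right (Ne.symm hht)
    obtain ⟨e1', -, -⟩ := key t' mt' ht'W ht'h
    have hWeq : W = imV φ t ⊔ imV φ t' := by
      refine (AddSubgroup.eq_of_le_of_card_ge (sup_le le_sup_right ht'W) ?_).symm
      rw [o.card_sup mt mt' hne', o.card_sup m mt hht, mt.card_im_eq m]
    have hP : imV φ t ⊔ imV φ t' = o.perp (fixV φ (o.bin.tel c)) := by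
      refine AddSubgroup.eq_of_le_of_card_ge (sup_le e1 e1') ?_
      rw [e3, o.card_sup mt mt' hne', mt.card_im_eq m]
    exact hcW (hWeq ▸ hP ▸ e2)
  -- counting
  let P := {k : H // Mx φ k ∧ imV φ k ≤ X}
  haveI : Fintype P := Fintype.ofFinite P
  have hq1 : 1 < q := by
    obtain ⟨c, hc, hc0⟩ := m.exists_moved o.inj
    rw [hqdef]
    by_contra hle
    haveI := (Finite.card_le_one_iff_subsingleton (α := imV φ h)).1 (not_lt.1 hle)
    exact hc0 (congrArg Subtype.val (Subsingleton.elim (⟨c, hc⟩ : imV φ h) 0))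
  have hpq : (q : ZMod p) = 0 := by
    obtain ⟨c, hc, hc0⟩ := m.exists_moved o.inj
    rw [ZMod.natCast_eq_zero_iff, hqdef]
    have : addOrderOf (⟨c, hc⟩ : imV φ h) = p :=
      addOrderOf_eq_prime (Subtype.ext (hchar c)) fun h0 => hc0 (congrArg Subtype.val h0)
    exact this ▸ addOrderOf_dvd_natCard _
  have hcount : ∀ (Y : AddSubgroup V) (n : ℕ), Y ≤ X → Nat.card Y = q ^ (n + 1) →
      (∀ k : P, ∀ c ∈ imV φ (k : H), c ∈ Y → c ≠ 0 → imV φ (k : H) ≤ Y) →
      ((Finset.univ.filter fun k : P => imV φ (k : H) ≤ Y).card : ZMod p) = 1 := by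
    intro Y n hY hcard hsat
    set S := Finset.univ.filter fun k : P => imV φ (k : H) ≤ Y with hS
    let f : (Σ k : S, {c : imV φ ((k : P) : H) // c ≠ 0}) → {c : Y // c ≠ 0} := fun kc =>
      ⟨⟨(kc.2.1 : V), (Finset.mem_filter.1 kc.1.2).2 kc.2.1.2⟩,
        fun h0 => kc.2.2 (Subtype.ext (show (kc.2.1 : V) = 0 from congrArg Subtype.val h0))⟩
    have hf : Function.Bijective f := by
      constructor
      · rintro ⟨⟨k, hk⟩, ⟨⟨c, hc⟩, hc0⟩⟩ ⟨⟨k', hk'⟩, ⟨⟨c', hc'⟩, hc0'⟩⟩ he
        obtain rfl : c = c' := congrArg Subtype.val (congrArg Subtype.val he)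
        obtain rfl : k = k' := Subtype.ext
          (k.2.1.eq_of_meet o.bin o.inj k'.2.1 (fun h0 => hc0 (Subtype.ext h0)) hc hc')
        rfl
      · rintro ⟨⟨c, hc⟩, hc0⟩
        have hc0' : c ≠ 0 := fun h0 => hc0 (Subtype.ext h0)
        obtain ⟨k, mk, hck, hkX⟩ := hcover c (hY hc) hc0'
        exact ⟨⟨⟨⟨k, mk, hkX⟩, Finset.mem_filter.2 ⟨Finset.mem_univ _, hsat ⟨k, mk, hkX⟩ c hck hc hc0'⟩⟩,
          ⟨⟨c, hck⟩, fun h0 => hc0' (congrArg Subtype.val h0)⟩⟩, rfl⟩
    have hne0 : ∀ (Z : AddSubgroup V), Nat.card {c : Z // c ≠ 0} = Nat.card Z - 1 := fun Z => by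
      haveI := Fintype.ofFinite Z
      rw [Nat.card_eq_fintype_card, Nat.card_eq_fintype_card, Fintype.card_subtype_compl, Fintype.card_subtype_eq]
    have h1 := Nat.card_congr (Equiv.ofBijective f hf)
    rw [hne0, hcard, Nat.card_sigma] at h1
    simp only [hne0, fun k : S => (k : P).2.1.card_im_eq m, ← hqdef, Finset.sum_const, Finset.card_univ,
      Fintype.card_coe, smul_eq_mul] at h1
    have h2 := congrArg (Nat.cast : ℕ → ZMod p) h1
    rw [Nat.cast_mul, Nat.cast_sub hq1.le, Nat.cast_sub (Nat.one_le_pow _ _ (zero_lt_one.trans hq1)),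
      Nat.cast_pow, hpq, zero_pow (Nat.succ_ne_zero n), zero_sub, Nat.cast_one, mul_neg, mul_one, neg_inj] at h2
    exact h2
  have hsat : ∀ k k' : P, ∀ c ∈ imV φ (k' : H), c ∈ fixV φ (k : H) → c ≠ 0 →
      imV φ (k' : H) ≤ fixV φ (k : H) := fun k k' c hc hck hc0 =>
    k.2.1.im_le_fix o.bin o.inj k'.2.1 (fun he => hc0 (o.im_inf_fix k.2.1 (he ▸ hc) hck))
      (k.2.1.comm_of_meet o.bin o.inj k'.2.1 hc0 hc hck)
  have hline : ∀ k : P, Nat.card ↥(X ⊓ fixV φ (k : H)) = q ^ (1 + 1) := fun k => by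
    refine le_antisymm ?_ ?_
    · have h1 := AddSubgroup.card_le_of_le (sup_le (inf_le_left : X ⊓ fixV φ (k : H) ≤ X) k.2.2)
      rw [card_sup_disjoint (fun v (hv : v ∈ X ⊓ fixV φ (k : H)) hv' => o.im_inf_fix k.2.1 hv' hv.2), hcX,
        k.2.1.card_im_eq m] at h1
      exact (Nat.le_of_mul_le_mul_right h1 (by omega)).trans (by rw [pow_two])
    · have h1 := card_restrict (φ := φ) X (k : H)
      rw [hcX, k.2.1.card_im_eq m] at h1
      exact (le_of_eq (pow_two q)).trans (Nat.le_of_mul_le_mul_right h1 (by omega))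
  have htwo : ∀ k k' : P, k ≠ k' → Nat.card ↥(X ⊓ fixV φ (k : H) ⊓ fixV φ (k' : H)) = q ^ (0 + 1) := by
    intro k k' hne
    have hne' : (k : H) ≠ k' := fun e => hne (Subtype.ext e)
    refine le_antisymm ?_ ?_
    · have h1 := AddSubgroup.card_le_of_le (sup_le
        (inf_le_left.trans inf_le_left : X ⊓ fixV φ (k : H) ⊓ fixV φ (k' : H) ≤ X) (sup_le k.2.2 k'.2.2))
      rw [card_sup_disjoint (fun v (hv : v ∈ X ⊓ fixV φ (k : H) ⊓ fixV φ (k' : H)) hv' =>
        o.perp_disjoint (fixV φ (k : H) ⊓ fixV φ (k' : H)) v ⟨hv.1.2, hv.2⟩ (o.sup_le_perp k.2.1 k'.2.1 hne' hv')),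
        hcX, o.card_sup k.2.1 k'.2.1 hne', k.2.1.card_im_eq m] at h1
      rw [pow_one]
      exact Nat.le_of_mul_le_mul_right (h1.trans (le_of_eq (mul_assoc q q q))) (Nat.mul_pos (by omega) (by omega))
    · have h1 := card_restrict (φ := φ) (X ⊓ fixV φ (k : H)) (k' : H)
      rw [hline, k'.2.1.card_im_eq m, pow_two] at h1
      rw [pow_one]
      exact Nat.le_of_mul_le_mul_right h1 (by omega)
  let A : Matrix P P (ZMod p) := fun k k' => if imV φ (k' : H) ≤ fixV φ (k : H) then 1 else 0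
  have hsymm : ∀ k k' : P, imV φ (k' : H) ≤ fixV φ (k : H) → imV φ (k : H) ≤ fixV φ (k' : H) := by
    intro k k' hle
    obtain ⟨c, hc, hc0⟩ := k'.2.1.exists_moved o.inj
    exact k'.2.1.im_le_fix o.bin o.inj k.2.1 (fun he => hc0 (o.im_inf_fix k.2.1 (he ▸ hc) (hle hc)))
      (k.2.1.comm_of_meet o.bin o.inj k'.2.1 hc0 hc (hle hc)).symm
  have hrow : ∀ k : P, ∑ k', A k k' = 1 := fun k => by
    rw [Finset.sum_boole]
    refine Eq.trans ?_ (hcount (X ⊓ fixV φ (k : H)) 1 inf_le_left (hline k)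
      fun k' c hc hcY hc0 => le_inf k'.2.2 (hsat k k' c hc hcY.2 hc0))
    congr 2
    exact Finset.filter_congr fun k' _ => ⟨fun h => le_inf k'.2.2 h, fun h => h.trans inf_le_right⟩
  refine no_polarity hp2 A (fun k => if_neg fun hle => ?_) (fun k k' => ?_) (fun k => ?_) ?_
  · obtain ⟨c, hc, hc0⟩ := k.2.1.exists_moved o.inj
    exact hc0 (o.im_inf_fix k.2.1 hc (hle hc))
  · rw [Matrix.mul_apply]
    have e : ∀ j, A k j * A j k' = if imV φ (j : H) ≤ fixV φ (k : H) ∧ imV φ (j : H) ≤ fixV φ (k' : H)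
        then 1 else 0 := fun j => by
      have hiff : imV φ (k' : H) ≤ fixV φ (j : H) ↔ imV φ (j : H) ≤ fixV φ (k' : H) := ⟨hsymm j k', hsymm k' j⟩
      simp only [A, hiff]
      split_ifs <;> simp_all
    rw [Finset.sum_congr rfl fun j _ => e j]
    by_cases hkk : k = k'
    · subst hkk
      simp only [and_self]
      exact hrow k
    rw [Finset.sum_boole]
    refine Eq.trans ?_ (hcount (X ⊓ fixV φ (k : H) ⊓ fixV φ (k' : H)) 0 (inf_le_left.trans inf_le_left)
      (htwo k k' hkk) fun j c hc hcY hc0 =>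
        le_inf (le_inf j.2.2 (hsat k j c hc hcY.1.2 hc0)) (hsat k' j c hc hcY.2 hc0))
    congr 2
    exact Finset.filter_congr fun j _ => ⟨fun h => le_inf (le_inf j.2.2 h.1) h.2,
      fun h => ⟨h.trans (inf_le_left.trans inf_le_right), h.trans inf_le_right⟩⟩
  · rw [← hrow k]
    refine Finset.sum_congr rfl fun j _ => ?_
    have hiff : imV φ (k : H) ≤ fixV φ (j : H) ↔ imV φ (j : H) ≤ fixV φ (k : H) := ⟨hsymm j k, hsymm k j⟩
    simp only [A, hiff]
  · refine Eq.trans ?_ (hcount X 2 le_rfl (by rw [hcX]; ring) fun k _ _ _ _ => k.2.2)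
    rw [Finset.filter_true_of_mem fun k _ => k.2.2, Finset.card_univ]

/-- fixed spaces are no larger than images -/
theorem OddSit.small {p : ℕ} [Fact p.Prime] (hchar : ∀ v : V, p • v = 0) (hp2 : p ≠ 2) (hne : fixV φ h ≠ ⊥) :
    Nat.card (fixV φ h) = Nat.card (imV φ h) := by
  refine le_antisymm ?_ (card_im_le_fix o.bin o.inj hirr m hne)
  by_contra hbig
  obtain ⟨s, ms, hs⟩ := o.exists_noncomm hirr m hne
  have hhs : h ≠ s := fun e => hs (by subst e; rfl)
  set U := imV φ h ⊔ imV φ s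
  have hUV : U ≠ ⊤ := fun he => hbig (by
    have h1 := o.card_sup m ms hhs
    rw [show imV φ h ⊔ imV φ s = ⊤ from he, AddSubgroup.card_top, ← card_fix_mul_im (φ := φ) h] at h1
    exact (Nat.eq_of_mul_eq_mul_right Nat.card_pos h1).le)
  obtain ⟨a, ha⟩ : ∃ a, ¬ imV φ (a * h * a⁻¹) ≤ U := by
    by_contra hcon
    push Not at hcon
    set A : AddSubgroup V := ⨆ a, imV φ (a * h * a⁻¹) with hA
    have hst : ∀ b, ∀ v ∈ A, φ b v ∈ A := fun b => by
      have : A ≤ A.comap (φ b : V →+ V) := iSup_le fun a v hv => by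
        refine le_iSup (fun a => imV φ (a * h * a⁻¹)) (b * a) ?_
        refine mem_imV_conj.2 ?_
        show φ (b * a)⁻¹ (φ b v) ∈ imV φ h
        rw [mul_inv_rev, act_mul, act_inv_cancel]
        exact mem_imV_conj.1 hv
      exact this
    rcases hirr A hst with h1 | h1
    · obtain ⟨c, hc, hc0⟩ := m.exists_moved o.inj
      have : c ∈ A := le_iSup (fun a => imV φ (a * h * a⁻¹)) 1 (by simpa using hc)
      rw [h1, AddSubgroup.mem_bot] at this
      exact hc0 this
    · exact hUV (eq_top_iff.2 (h1 ▸ iSup_le hcon))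
  set t := a * h * a⁻¹
  by_cases hc : h * t = t * h
  · have hht : h ≠ t := fun e => ha (e ▸ le_sup_left)
    obtain ⟨k, mk, hk, hk'⟩ := o.neighbour m hht hc
    by_cases hkU : imV φ k ≤ U
    · exact o.triple_false (h := k) mk hchar hp2 m (m.conj a) (Ne.symm hk) (Ne.symm hk')
        fun hle => ha (hle.trans (sup_le hkU le_sup_left))
    · exact o.triple_false m hchar hp2 ms mk hs hk hkU
  · exact o.triple_false m hchar hp2 ms (m.conj a) hs hc ha

end Cfsg.Lib.BinaryAffine
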