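import Cfsg.Agent.BinaryAffine.EvenMain
import Cfsg.Agent.BinaryAffine.OddTriple
import Cfsg.Agent.BinaryAffine.Field
import Mathlib.GroupTheory.GroupAction.Primitive

/-!
Binary primitive permutation groups of affine type.
-/

set_option autoImplicit false
set_option linter.unusedSectionVars false
set_option linter.style.haveILetI false

namespace Cfsg.Lib.BinaryAffine

universe u v

/-- the classification of the irreducible binary linear groups -/
theorem linear_classification {H : Type*} [Group H] [Finite H] {V : Type*} [AddCommGroup V] [Finite V]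
    {φ : H →* AddMonoid.End V} (hb : Bin φ) (hinj : Function.Injective φ) (hirr : Irr φ)
    (hV : (⊤ : AddSubgroup V) ≠ ⊥) {p : ℕ} [Fact p.Prime] (hchar : ∀ v : V, p • v = 0) :
    ((Nat.card V).Prime ∧ Nat.card H ≤ 2) ∨
    ∃ (F E : Type) (_ : Field F) (_ : Fintype F) (_ : Field E) (_ : Fintype E) (_ : Algebra F E) (e : V ≃+ E),
      Module.finrank F E = 2 ∧
      (∀ g : H, ∃ (a : E) (ψ : E ≃ₐ[F] E), Algebra.norm F a = 1 ∧ ∀ v, e (φ g v) = a * ψ (e v)) ∧
      (∀ (a : E) (ψ : E ≃ₐ[F] E), Algebra.norm F a = 1 → ∃ g : H, ∀ v, e (φ g v) = a * ψ (e v)) := by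
  by_cases hf : ∀ g : H, g ≠ 1 → fixV φ g = ⊥
  · exact Or.inl ⟨card_prime hb hinj hirr hf hV, card_le_two hb hinj hf hV⟩
  right
  push Not at hf
  obtain ⟨g₀, hg₀, hg₀'⟩ := hf
  haveI : Nontrivial H := ⟨⟨g₀, 1, hg₀⟩⟩
  obtain ⟨h, m⟩ := exists_mx φ
  have hne : fixV φ h ≠ ⊥ := fun he => hg₀' (by
    have h1 := m.2 g₀ hg₀
    rw [he, AddSubgroup.card_bot] at h1
    exact AddSubgroup.eq_bot_of_card_le _ h1)
  suffices P : Plane φ h from P.coords hchar
  obtain ⟨hsmall, hnc⟩ : Nat.card (fixV φ h) = Nat.card (imV φ h) ∧ ∃ k, Mx φ k ∧ h * k ≠ k * h := by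
    by_cases hp : p = 2
    · subst hp
      have h2 : ∀ v : V, v + v = 0 := fun v => by rw [← two_nsmul]; exact hchar v
      obtain ⟨a, ha⟩ := exists_noncomm_even h2 hb hinj hirr m hne
      exact ⟨small_even h2 hb hinj hirr m hne, _, m.conj a, ha⟩
    · obtain ⟨k, hk⟩ := (Fact.out : p.Prime).odd_of_ne_two hp
      have half : ∃ t : ℕ, ∀ v : V, t • (v + v) = v := ⟨k + 1, fun v => by
        rw [← two_nsmul, ← mul_nsmul', show (k + 1) * 2 = p + 1 by omega, succ_nsmul, hchar, zero_add]⟩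
      obtain ⟨g, hg⟩ := exists_fpf hb hinj hirr m
      have o := OddSit.of_fpf hb hinj half hg
      exact ⟨o.small hirr m hchar hp hne, o.exists_noncomm hirr m hne⟩
  exact ⟨hb, hinj, m, hne, hsmall, fun g h1 h2 => mx_of_small hb hinj hirr m hsmall h1 h2, hnc⟩

variable {G : Type u} {Ω : Type v} [Group G] [Finite G] [MulAction G Ω] [FaithfulSMul G Ω] [Fintype Ω]

/-- the classification of the binary primitive groups of affine type -/
theorem classification (hprim : MulAction.IsPreprimitive G Ω)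
    (haff : ∃ N : Subgroup G, N.Normal ∧ N ≠ ⊥ ∧ IsMulCommutative ↥N)
    (hbin : ∀ (n : ℕ) (I J : Fin n → Ω), 2 ≤ n →
      (∀ i j : Fin n, i ≠ j → ∃ g : G, g • I i = J i ∧ g • I j = J j) → ∃ g : G, ∀ i, g • I i = J i) :
    ((Fintype.card Ω).Prime ∧ ∀ ω : Ω, Nat.card ↥(MulAction.stabilizer G ω) ≤ 2) ∨
    (∃ (F E : Type) (_ : Field F) (_ : Fintype F) (_ : Field E) (_ : Fintype E) (_ : Algebra F E) (e : Ω ≃ E),
        Module.finrank F E = 2 ∧
        ∀ σ : Equiv.Perm Ω, σ ∈ (MulAction.toPermHom G Ω).range ↔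
          ∃ (a b : E) (φ : E ≃ₐ[F] E), Algebra.norm F a = 1 ∧ ∀ ω : Ω, e (σ ω) = a * φ (e ω) + b) := by
  classical
  obtain ⟨N, hN, hNb, hNc⟩ := haff
  haveI := hN
  haveI := hprim
  letI : CommGroup N := { (inferInstance : Group N) with mul_comm := hNc.is_comm.comm }
  -- regular normal subgroup
  obtain ⟨n₀, hn₀, hn₀1⟩ := (Subgroup.ne_bot_iff_exists_ne_one.1 hNb).elim fun n hn => (⟨(n : G), n.2,
    fun h => hn (Subtype.ext h)⟩ : ∃ n : G, n ∈ N ∧ n ≠ 1)
  have hfix : MulAction.fixedPoints N Ω ≠ Set.univ := fun he => hn₀1 (FaithfulSMul.eq_of_smul_eq_smul fun ω : Ω => by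
    rw [one_smul]
    exact (he.ge (Set.mem_univ ω) : ω ∈ MulAction.fixedPoints N Ω) ⟨n₀, hn₀⟩)
  haveI : MulAction.IsPretransitive N Ω := MulAction.IsQuasiPreprimitive.isPretransitive_of_normal hfix
  obtain ⟨ω₀, -⟩ := (Set.ne_univ_iff_exists_notMem _).1 hfix
  have hreg : Function.Bijective fun n : N => (n : G) • ω₀ := by
    refine ⟨fun a b hab => Subtype.ext (FaithfulSMul.eq_of_smul_eq_smul fun ω : Ω => ?_),
      fun ω => MulAction.exists_smul_eq N ω₀ ω⟩
    obtain ⟨c, rfl⟩ := MulAction.exists_smul_eq N ω₀ ω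
    show (a : G) • (c : G) • ω₀ = (b : G) • (c : G) • ω₀
    rw [← mul_smul, ← mul_smul, show (a : G) * c = c * a from congrArg Subtype.val (mul_comm a c),
      show (b : G) * c = c * b from congrArg Subtype.val (mul_comm b c), mul_smul, mul_smul]
    exact congrArg _ hab
  let ι : Additive N ≃ Ω := Additive.toMul.trans (Equiv.ofBijective _ hreg)
  have hι : ∀ m : Additive N, ι m = ((Additive.toMul m : N) : G) • ω₀ := fun _ => rfl
  let H := MulAction.stabilizer G ω₀
  let φ : H →* AddMonoid.End (Additive N) :=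
    { toFun := fun h => MonoidHom.toAdditive (MulAut.conjNormal (h : G) : N ≃* N).toMonoidHom
      map_one' := DFunLike.ext (F := AddMonoid.End (Additive N)) _ _ fun m => by
        apply Additive.toMul.injective
        exact Subtype.ext (show ((1 : H) : G) * _ * ((1 : H) : G)⁻¹ = _ by simp)
      map_mul' := fun a b => DFunLike.ext (F := AddMonoid.End (Additive N)) _ _ fun m => by
        apply Additive.toMul.injective
        exact Subtype.ext (show ((a * b : H) : G) * ((Additive.toMul m : N) : G) * ((a * b : H) : G)⁻¹ =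
          (a : G) * ((b : G) * ((Additive.toMul m : N) : G) * (b : G)⁻¹) * (a : G)⁻¹ by
            simp [mul_assoc]) }
  have hφ : ∀ (h : H) m, (h : G) • ι m = ι (φ h m) := fun h m => by
    show (h : G) • ((Additive.toMul m : N) : G) • ω₀ = ((h : G) * ((Additive.toMul m : N) : G) * (h : G)⁻¹) • ω₀
    rw [mul_smul, mul_smul, show (h : G)⁻¹ • ω₀ = ω₀ from inv_smul_eq_iff.2 (MulAction.mem_stabilizer_iff.1 h.2).symm]
  have hdec : ∀ g : G, ∃ (t : Additive N) (h : H), ∀ m, g • ι m = ι (t + φ h m) := fun g => by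
    obtain ⟨t, ht⟩ := ι.surjective (g • ω₀)
    refine ⟨t, ⟨((Additive.toMul t : N) : G)⁻¹ * g, ?_⟩, fun m => ?_⟩
    · rw [MulAction.mem_stabilizer_iff, mul_smul, ← ht, hι, inv_smul_smul]
    · rw [hι (t + _), toMul_add, Subgroup.coe_mul, mul_smul, ← hι, ← hφ]
      show g • ι m = ((Additive.toMul t : N) : G) • ((((Additive.toMul t : N) : G)⁻¹ * g) • ι m)
      rw [← mul_smul, mul_inv_cancel_left]
  have hι0 : ι 0 = ω₀ := by rw [hι, toMul_zero, Subgroup.coe_one, one_smul]
  have hinj : Function.Injective φ := fun a b hab => Subtype.ext <| FaithfulSMul.eq_of_smul_eq_smul fun ω : Ω => by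
    obtain ⟨m, rfl⟩ := ι.surjective ω
    rw [hφ, hφ, hab]
  have hb : Bin φ := by
    intro k x y h1 h2
    rcases Nat.eq_zero_or_pos k with rfl | hk
    · exact ⟨1, fun i => i.elim0⟩
    obtain ⟨g, hg⟩ := hbin (k + 1) (Fin.cons ω₀ fun i => ι (x i)) (Fin.cons ω₀ fun i => ι (y i)) (by omega) (by
      intro i j hij
      induction i using Fin.cases with
      | zero =>
        induction j using Fin.cases with
        | zero => exact absurd rfl hij
        | succ j =>
          obtain ⟨a, ha⟩ := h1 j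
          exact ⟨a, by simpa using (MulAction.mem_stabilizer_iff.1 a.2), by simp [hφ, ha]⟩
      | succ i =>
        induction j using Fin.cases with
        | zero =>
          obtain ⟨a, ha⟩ := h1 i
          exact ⟨a, by simp [hφ, ha], by simpa using (MulAction.mem_stabilizer_iff.1 a.2)⟩
        | succ j =>
          obtain ⟨a, ha⟩ := h2 i j
          refine ⟨((Additive.toMul (y j - φ a (x j)) : N) : G) * a, ?_, ?_⟩ <;>
            simp only [Fin.cons_succ, mul_smul, hφ] <;> rw [hι (φ a _), ← mul_smul, ← Subgroup.coe_mul, ← toMul_add,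
              ← hι]
          · congr 1
            rw [map_sub] at ha
            calc y j - φ a (x j) + φ a (x i) = y j + (φ a (x i) - φ a (x j)) := by abel
              _ = y i := by rw [ha]; abel
          · congr 1; abel)
    refine ⟨⟨g, MulAction.mem_stabilizer_iff.2 (by simpa using hg 0)⟩, fun i => ι.injective ?_⟩
    rw [← hφ]
    simpa using hg i.succ
  have hirr : Irr φ := by
    intro A hA
    let K : Subgroup G := (AddSubgroup.toSubgroup' A).map N.subtype
    have hmem : ∀ {z : G}, z ∈ K ↔ ∃ m ∈ A, ((Additive.toMul m : N) : G) = z := by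
      intro z
      constructor
      · rintro ⟨n, hn, rfl⟩; exact ⟨Additive.ofMul n, hn, rfl⟩
      · rintro ⟨m, hm, rfl⟩; exact ⟨Additive.toMul m, hm, rfl⟩
    have hK : K.Normal := ⟨fun z hz g => by
      obtain ⟨m, hm, rfl⟩ := hmem.1 hz
      obtain ⟨t, ht⟩ := hreg.2 (g • ω₀)
      have hh : (t : G)⁻¹ * g ∈ H := by rw [MulAction.mem_stabilizer_iff, mul_smul, ← ht, inv_smul_smul]
      refine hmem.2 ⟨φ ⟨_, hh⟩ m, hA _ m hm, ?_⟩
      have hc : (t : G)⁻¹ * (g * ((Additive.toMul m : N) : G) * g⁻¹) * t = g * ((Additive.toMul m : N) : G) * g⁻¹ := by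
        have h3 : (⟨g * ((Additive.toMul m : N) : G) * g⁻¹, hN.conj_mem _ (Additive.toMul m).2 g⟩ : N) * t =
            t * ⟨g * ((Additive.toMul m : N) : G) * g⁻¹, hN.conj_mem _ (Additive.toMul m).2 g⟩ := mul_comm _ _
        have h4 := congrArg Subtype.val h3
        rw [Subgroup.coe_mul, Subgroup.coe_mul] at h4
        rw [mul_assoc, show g * ((Additive.toMul m : N) : G) * g⁻¹ * t = t * (g * ((Additive.toMul m : N) : G) * g⁻¹)
          from h4, inv_mul_cancel_left]
      refine Eq.trans ?_ hc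
      show (t : G)⁻¹ * g * ((Additive.toMul m : N) : G) * ((t : G)⁻¹ * g)⁻¹ = _
      simp [mul_assoc]⟩
    by_cases hA0 : A = ⊥
    · exact Or.inl hA0
    right
    obtain ⟨m, hm, hm0⟩ : ∃ m ∈ A, m ≠ 0 := by
      by_contra hcon
      push Not at hcon
      exact hA0 (eq_bot_iff.2 fun m hm => by simp [hcon m hm])
    have hfixK : MulAction.fixedPoints K Ω ≠ Set.univ := fun he => by
      have h5 := (he.ge (Set.mem_univ ω₀) : ω₀ ∈ MulAction.fixedPoints K Ω) ⟨_, hmem.2 ⟨m, hm, rfl⟩⟩
      exact hm0 (ι.injective (by rw [hι0, hι]; exact h5))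
    haveI := hK
    haveI : MulAction.IsPretransitive K Ω := MulAction.IsQuasiPreprimitive.isPretransitive_of_normal hfixK
    refine eq_top_iff.2 fun z _ => ?_
    obtain ⟨⟨k, hk⟩, hkz⟩ := MulAction.exists_smul_eq K ω₀ (ι z)
    obtain ⟨m', hm', rfl⟩ := hmem.1 hk
    have hzm : z = m' := ι.injective (hkz.symm.trans (hι m').symm)
    exact hzm ▸ hm'
  -- the exponent
  have hV : (⊤ : AddSubgroup (Additive N)) ≠ ⊥ := fun he => hn₀1 (by
    have h6 : Additive.ofMul (⟨n₀, hn₀⟩ : N) ∈ (⊤ : AddSubgroup (Additive N)) := AddSubgroup.mem_top _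
    rw [he, AddSubgroup.mem_bot] at h6
    exact congrArg Subtype.val (congrArg Additive.toMul h6))
  obtain ⟨p, hp, hpd⟩ := Nat.exists_prime_and_dvd (n := Nat.card (Additive N)) fun he =>
    hV (AddSubgroup.eq_bot_of_card_le _ (by rw [AddSubgroup.card_top, he]))
  haveI := Fact.mk hp
  have hchar : ∀ m : Additive N, p • m = 0 := by
    obtain ⟨x, hx⟩ := exists_prime_addOrderOf_dvd_card' p hpd
    let A : AddSubgroup (Additive N) := (nsmulAddMonoidHom p).ker
    rcases hirr A (fun g v hv => by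
      show p • φ g v = 0
      rw [← map_nsmul, show p • v = 0 from hv, map_zero]) with h7 | h7
    · have h8 : x ∈ A := show p • x = 0 from hx ▸ addOrderOf_nsmul_eq_zero x
      rw [h7, AddSubgroup.mem_bot] at h8
      rw [h8, addOrderOf_zero] at hx
      exact absurd hx.symm hp.ne_one
    · exact fun m => (h7.ge (AddSubgroup.mem_top m) : m ∈ A)
  rcases linear_classification hb hinj hirr hV hchar with ⟨h1, h2⟩ | ⟨F, E, iF, iFf, iE, iEf, iA, e, he, hto, hfrom⟩
  · left
    refine ⟨by rwa [← Nat.card_eq_fintype_card, ← Nat.card_congr ι], fun ω => ?_⟩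
    obtain ⟨g, rfl⟩ := MulAction.exists_smul_eq G ω₀ ω
    rw [MulAction.stabilizer_smul_eq_stabilizer_map_conj,
      ← Nat.card_congr ((MulAction.stabilizer G ω₀).equivMapOfInjective _ (MulAut.conj g).injective).toEquiv]
    exact h2
  · right
    refine ⟨F, E, iF, iFf, iE, iEf, iA, ι.symm.trans e.toEquiv, he, fun σ => ⟨?_, ?_⟩⟩
    · rintro ⟨g, rfl⟩
      obtain ⟨t, h, hg⟩ := hdec g
      obtain ⟨a, ψ, ha, hψ⟩ := hto h
      refine ⟨a, e t, ψ, ha, fun ω => ?_⟩
      obtain ⟨m, rfl⟩ := ι.surjective ω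
      show e (ι.symm (g • ι m)) = a * ψ (e (ι.symm (ι m))) + e t
      rw [hg, Equiv.symm_apply_apply, Equiv.symm_apply_apply, map_add, hψ, add_comm]
    · rintro ⟨a, b, ψ, ha, hσ⟩
      obtain ⟨h, hh⟩ := hfrom a ψ ha
      refine ⟨((Additive.toMul (e.symm b) : N) : G) * (h : G), Equiv.ext fun ω => (ι.symm.trans e.toEquiv).injective ?_⟩
      rw [hσ]
      obtain ⟨m, rfl⟩ := ι.surjective ω
      show e (ι.symm ((((Additive.toMul (e.symm b) : N) : G) * (h : G)) • ι m)) = a * ψ (e (ι.symm (ι m))) + b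
      rw [mul_smul, hφ, hι (φ h m), ← mul_smul, ← Subgroup.coe_mul, ← toMul_add, ← hι, Equiv.symm_apply_apply,
        Equiv.symm_apply_apply, map_add, AddEquiv.apply_symm_apply, hh, add_comm]

end Cfsg.Lib.BinaryAffine
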