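import Mathlib.GroupTheory.Index
import Mathlib.GroupTheory.OrderOfElement
import Mathlib.Algebra.Module.ZMod
import Mathlib.Tactic.Abel
import Mathlib.Tactic.Group
import Mathlib.Tactic.Linarith

/-!
Binary linear groups: the translation lemma and elements with largest fixed space.
-/

set_option autoImplicit false
set_option linter.unusedSectionVars false

namespace Cfsg.Lib.BinaryAffine

variable {H : Type*} [Group H] [Finite H] {V : Type*} [AddCommGroup V] [Finite V]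
variable {φ : H →* AddMonoid.End V}

/-- the action on `V` is binary when the translations are adjoined -/
def Bin (φ : H →* AddMonoid.End V) : Prop :=
  ∀ (n : ℕ) (x y : Fin n → V), (∀ i, ∃ h, φ h (x i) = y i) →
    (∀ i j, ∃ h, φ h (x i - x j) = y i - y j) → ∃ h, ∀ i, φ h (x i) = y i

theorem act_mul (g h : H) (v : V) : φ (g * h) v = φ g (φ h v) := by rw [map_mul]; rfl

theorem act_one (v : V) : φ (1 : H) v = v := by rw [map_one]; rfl

theorem act_inv_cancel (g : H) (v : V) : φ g⁻¹ (φ g v) = v := by rw [← act_mul, inv_mul_cancel, act_one]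

theorem act_cancel_inv (g : H) (v : V) : φ g (φ g⁻¹ v) = v := by rw [← act_mul, mul_inv_cancel, act_one]

theorem act_inj (g : H) : Function.Injective (φ g) := Function.LeftInverse.injective (act_inv_cancel g)

/-- `v ↦ g v - v` -/
def dlt (φ : H →* AddMonoid.End V) (g : H) : V →+ V :=
  AddMonoidHom.mk' (fun v => φ g v - v) fun u v => by rw [map_add]; abel

theorem dlt_apply (g : H) (v : V) : dlt φ g v = φ g v - v := rfl

/-- fixed vectors -/
def fixV (φ : H →* AddMonoid.End V) (g : H) : AddSubgroup V := (dlt φ g).ker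

/-- the image of `g - 1` -/
def imV (φ : H →* AddMonoid.End V) (g : H) : AddSubgroup V := (dlt φ g).range

theorem mem_fixV {g : H} {v : V} : v ∈ fixV φ g ↔ φ g v = v := by
  rw [fixV, AddMonoidHom.mem_ker, dlt_apply, sub_eq_zero]

theorem mem_imV {g : H} {c : V} : c ∈ imV φ g ↔ ∃ x, φ g x = x + c := by
  simp only [imV, AddMonoidHom.mem_range, dlt_apply, sub_eq_iff_eq_add']

theorem card_fix_mul_im (g : H) : Nat.card (fixV φ g) * Nat.card (imV φ g) = Nat.card V := by
  rw [fixV, imV, mul_comm, ← Nat.card_congr (QuotientAddGroup.quotientKerEquivRange (dlt φ g)).toEquiv]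
  exact (AddSubgroup.card_eq_card_quotient_mul_card_addSubgroup _).symm

theorem card_sup_disjoint {X Y : AddSubgroup V} (h : ∀ v ∈ X, v ∈ Y → v = 0) :
    Nat.card ↥(X ⊔ Y) = Nat.card X * Nat.card Y := by
  let f : X × Y →+ V := X.subtype.coprod Y.subtype
  have hf : Function.Injective f := (injective_iff_map_eq_zero f).2 fun ⟨a, b⟩ hab => by
    have hab' : (a : V) + b = 0 := hab
    have ha : (a : V) = 0 := h a a.2 (by rw [eq_neg_of_add_eq_zero_left hab']; exact neg_mem b.2)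
    have hb : (b : V) = 0 := by simpa [ha] using hab'
    exact Prod.ext (Subtype.ext ha) (Subtype.ext hb)
  have hr : f.range = X ⊔ Y := by
    ext v
    rw [AddSubgroup.mem_sup, AddMonoidHom.mem_range]
    constructor
    · rintro ⟨⟨a, b⟩, rfl⟩; exact ⟨a, a.2, b, b.2, rfl⟩
    · rintro ⟨a, ha, b, hb, rfl⟩; exact ⟨(⟨a, ha⟩, ⟨b, hb⟩), rfl⟩
  rw [← hr, Nat.card_congr (AddMonoidHom.ofInjective hf).toEquiv.symm, Nat.card_prod]

theorem card_mul_le {X Y : AddSubgroup V} (h : ∀ v ∈ X, v ∈ Y → v = 0) :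
    Nat.card X * Nat.card Y ≤ Nat.card V := by
  rw [← card_sup_disjoint h]; exact AddSubgroup.card_le_card_addGroup _

theorem exists_common {X Y : AddSubgroup V} {Z : AddSubgroup V} (hX : X ≤ Z) (hY : Y ≤ Z)
    (h : Nat.card Z < Nat.card X * Nat.card Y) : ∃ v ∈ X, v ∈ Y ∧ v ≠ 0 := by
  by_contra hcon
  push Not at hcon
  rw [← card_sup_disjoint (fun v hv hv' => hcon v hv hv')] at h
  exact absurd h (not_lt.2 (AddSubgroup.card_le_of_le (sup_le hX hY)))

theorem sup_eq_of_card {X Y Z : AddSubgroup V} (hd : ∀ v ∈ X, v ∈ Y → v = 0) (hX : X ≤ Z) (hY : Y ≤ Z)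
    (h : Nat.card Z ≤ Nat.card X * Nat.card Y) : X ⊔ Y = Z :=
  AddSubgroup.eq_of_le_of_card_ge (sup_le hX hY) (by rwa [card_sup_disjoint hd])

theorem mem_imV_conj {g a : H} {c : V} : c ∈ imV φ (g * a * g⁻¹) ↔ φ g⁻¹ c ∈ imV φ a := by
  simp only [mem_imV]
  constructor
  · rintro ⟨x, hx⟩
    rw [act_mul, act_mul] at hx
    refine ⟨φ g⁻¹ x, act_inj (φ := φ) g ?_⟩
    rw [hx, map_add, act_cancel_inv, act_cancel_inv]
  · rintro ⟨x, hx⟩
    refine ⟨φ g x, ?_⟩
    rw [act_mul, act_mul, act_inv_cancel, hx, map_add, act_cancel_inv]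

theorem mem_fixV_conj {g a : H} {v : V} : v ∈ fixV φ (g * a * g⁻¹) ↔ φ g⁻¹ v ∈ fixV φ a := by
  simp only [mem_fixV]
  constructor
  · intro h
    rw [act_mul, act_mul] at h
    exact act_inj g (by rw [h, act_cancel_inv])
  · intro h
    rw [act_mul, act_mul, h, act_cancel_inv]

theorem card_fixV_conj (g a : H) : Nat.card (fixV φ (g * a * g⁻¹)) = Nat.card (fixV φ a) :=
  Nat.card_congr
    { toFun := fun v => ⟨φ g⁻¹ v, mem_fixV_conj.1 v.2⟩
      invFun := fun v => ⟨φ g v, mem_fixV_conj.2 (by rw [act_inv_cancel]; exact v.2)⟩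
      left_inv := fun v => Subtype.ext (act_cancel_inv g (v : V))
      right_inv := fun v => Subtype.ext (act_inv_cancel g (v : V)) }

theorem fixV_inv (g : H) : fixV φ g⁻¹ = fixV φ g := by
  ext v
  simp only [mem_fixV]
  constructor
  · intro h; conv_lhs => rw [← h, act_cancel_inv]
  · intro h; conv_lhs => rw [← h, act_inv_cancel]

theorem imV_inv (g : H) : imV φ g⁻¹ = imV φ g := by
  refine le_antisymm ?_ ?_ <;> intro c hc <;> obtain ⟨x, hx⟩ := mem_imV.1 hc
  · refine neg_mem_iff.1 (mem_imV.2 ⟨φ g⁻¹ x, ?_⟩)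
    rw [act_cancel_inv, hx, add_neg_cancel_right]
  · refine neg_mem_iff.1 (mem_imV.2 ⟨φ g x, ?_⟩)
    rw [act_inv_cancel, hx, add_neg_cancel_right]

/-- products with disjoint images -/
theorem fixV_mul {g h : H} (hd : ∀ c ∈ imV φ g, c ∈ imV φ h → c = 0) :
    fixV φ (g * h) = fixV φ g ⊓ fixV φ h := by
  ext v
  simp only [AddSubgroup.mem_inf, mem_fixV, act_mul]
  constructor
  · intro hv
    have h1 : φ h v - v ∈ imV φ g := by
      rw [← imV_inv]
      exact mem_imV.2 ⟨v, by conv_lhs => rw [← hv, act_inv_cancel]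
                             abel⟩
    have h2 : φ h v = v := sub_eq_zero.1 (hd _ h1 ⟨v, rfl⟩)
    exact ⟨by rwa [h2] at hv, h2⟩
  · rintro ⟨h1, h2⟩; rw [h2, h1]

theorem imV_mul_le (g h : H) : imV φ (g * h) ≤ imV φ g ⊔ imV φ h := by
  rintro c ⟨x, rfl⟩
  rw [dlt_apply, act_mul, show φ g (φ h x) - x = (φ g (φ h x) - φ h x) + (φ h x - x) by abel]
  exact add_mem (AddSubgroup.mem_sup_left ⟨_, rfl⟩) (AddSubgroup.mem_sup_right ⟨_, rfl⟩)

theorem fixV_pow (g : H) (n : ℕ) {v : V} (h : v ∈ fixV φ g) : v ∈ fixV φ (g ^ n) := by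
  rw [mem_fixV] at h ⊢
  induction n with
  | zero => rw [pow_zero, act_one]
  | succ n ih => rw [pow_succ, act_mul, h, ih]

theorem imV_pow_le (g : H) (n : ℕ) : imV φ (g ^ n) ≤ imV φ g := by
  induction n with
  | zero => rintro c ⟨x, rfl⟩; rw [dlt_apply, pow_zero, act_one, sub_self]; exact zero_mem _
  | succ n ih => rw [pow_succ]; exact (imV_mul_le _ _).trans (sup_le ih le_rfl)

theorem imV_stable (g : H) {c : V} (hc : c ∈ imV φ g) : φ g c ∈ imV φ g := by
  obtain ⟨x, hx⟩ := mem_imV.1 hc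
  exact mem_imV.2 ⟨φ g x, by conv_lhs => rw [hx, map_add]⟩

/-! ### the translation lemma -/

theorem Bin.translate (hb : Bin φ) (c : V) : ∃ k, ∀ g x, φ g x = x + c → φ k x = x + c := by
  classical
  haveI := Fintype.ofFinite {x : V // ∃ g, φ g x = x + c}
  let e := (Fintype.equivFin {x : V // ∃ g, φ g x = x + c}).symm
  obtain ⟨k, hk⟩ := hb _ (fun i => (e i : V)) (fun i => (e i : V) + c) (fun i => (e i).2) fun i j =>
    ⟨1, by rw [act_one]; abel⟩
  refine ⟨k, fun g x hx => ?_⟩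
  obtain ⟨i, hi⟩ := e.surjective ⟨x, g, hx⟩
  have := hk i
  rwa [show (e i : V) = x by rw [hi]] at this

/-- the element moving everything that is moved by `c` -/
noncomputable def Bin.tel (hb : Bin φ) (c : V) : H := (hb.translate c).choose

theorem Bin.tel_spec (hb : Bin φ) {c : V} {g : H} {x : V} (h : φ g x = x + c) : φ (hb.tel c) x = x + c :=
  (hb.translate c).choose_spec g x h

theorem Bin.fix_le_tel (hb : Bin φ) {c : V} {g : H} {x : V} (h : φ g x = x + c) :
    fixV φ g ≤ fixV φ (hb.tel c) := by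
  intro y hy
  rw [mem_fixV] at hy ⊢
  have h1 := hb.tel_spec (c := c) (g := g) (x := x + y) (by rw [map_add, h, hy]; abel)
  rw [map_add, hb.tel_spec h] at h1
  exact add_left_cancel (h1.trans (by abel : x + y + c = x + c + y))

theorem Bin.tel_ne (hb : Bin φ) {c : V} (hc : c ≠ 0) {g : H} {x : V} (h : φ g x = x + c) : hb.tel c ≠ 1 := by
  intro he
  have := hb.tel_spec h
  rw [he, act_one, left_eq_add] at this
  exact hc this

/-! ### elements with largest fixed space -/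

/-- non-trivial with a largest fixed space -/
def Mx (φ : H →* AddMonoid.End V) (h : H) : Prop :=
  h ≠ 1 ∧ ∀ g : H, g ≠ 1 → Nat.card (fixV φ g) ≤ Nat.card (fixV φ h)

theorem exists_mx [Nontrivial H] (φ : H →* AddMonoid.End V) : ∃ h, Mx φ h := by
  classical
  haveI := Fintype.ofFinite H
  obtain ⟨g, hg⟩ := exists_ne (1 : H)
  obtain ⟨h, hh, hmax⟩ := (Finset.univ.filter fun g : H => g ≠ 1).exists_max_image
    (fun g => Nat.card (fixV φ g)) ⟨g, by simpa using hg⟩
  exact ⟨h, (Finset.mem_filter.1 hh).2, fun g hg => hmax g (by simpa using hg)⟩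

theorem Mx.conj {h : H} (m : Mx φ h) (g : H) : Mx φ (g * h * g⁻¹) := by
  refine ⟨fun he => m.1 ?_, fun a ha => (m.2 a ha).trans (card_fixV_conj g h).ge⟩
  simpa [mul_assoc] using congrArg (fun z => g⁻¹ * z * g) he

theorem Mx.card_eq {h h' : H} (m : Mx φ h) (m' : Mx φ h') : Nat.card (fixV φ h) = Nat.card (fixV φ h') :=
  le_antisymm (m'.2 h m.1) (m.2 h' m'.1)

theorem Mx.card_im_eq {h h' : H} (m : Mx φ h) (m' : Mx φ h') : Nat.card (imV φ h) = Nat.card (imV φ h') :=
  Nat.eq_of_mul_eq_mul_left (n := Nat.card (fixV φ h)) Nat.card_pos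
    (by rw [card_fix_mul_im, m.card_eq m', card_fix_mul_im])

theorem Mx.eq_fix {h g : H} (m : Mx φ h) (hg : g ≠ 1) (hle : fixV φ h ≤ fixV φ g) : fixV φ h = fixV φ g :=
  AddSubgroup.eq_of_le_of_card_ge hle (m.2 g hg)

theorem Mx.of_im_le {h g : H} (m : Mx φ h) (hg : g ≠ 1) (hle : Nat.card (imV φ g) ≤ Nat.card (imV φ h)) :
    Mx φ g := by
  have h1 : Nat.card (fixV φ h) ≤ Nat.card (fixV φ g) := by
    by_contra hlt
    have h2 := Nat.mul_lt_mul_of_lt_of_le (not_le.1 hlt) hle Nat.card_pos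
    rw [card_fix_mul_im, card_fix_mul_im] at h2
    exact lt_irrefl _ h2
  exact ⟨hg, fun a ha => (m.2 a ha).trans h1⟩

variable (hb : Bin φ) (hinj : Function.Injective φ)

theorem ext_act (hinj : Function.Injective φ) {a b : H} (h : ∀ v, φ a v = φ b v) : a = b :=
  hinj (DFunLike.ext (F := AddMonoid.End V) _ _ h)

theorem Mx.exists_moved (hinj : Function.Injective φ) {h : H} (m : Mx φ h) : ∃ c ∈ imV φ h, c ≠ 0 := by
  by_contra hcon
  push Not at hcon
  exact m.1 (ext_act hinj fun v => by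
    rw [act_one]; exact sub_eq_zero.1 (hcon _ ⟨v, rfl⟩))

include hb

/-- elements whose image meets that of a maximal one fix only what it fixes -/
theorem Mx.fix_le {h g : H} (m : Mx φ h) {c : V} (hc : c ≠ 0) (hch : c ∈ imV φ h) (hcg : c ∈ imV φ g) :
    fixV φ g ≤ fixV φ h := by
  obtain ⟨y, hy⟩ := mem_imV.1 hch
  obtain ⟨x, hx⟩ := mem_imV.1 hcg
  exact (m.eq_fix (hb.tel_ne hc hy) (hb.fix_le_tel hy)).symm ▸ hb.fix_le_tel hx

theorem Mx.disjoint_of_not_le {h g : H} (m : Mx φ h) (hn : ¬ fixV φ g ≤ fixV φ h) :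
    ∀ c ∈ imV φ g, c ∈ imV φ h → c = 0 := fun c hcg hch => by
  by_contra hc
  exact hn (m.fix_le hb hc hch hcg)

theorem Mx.uniq {h g : H} (m : Mx φ h) {x : V} (hx : φ g x - x ∈ imV φ h) : φ g x = x ∨ φ g x = φ h x := by
  by_cases h0 : φ g x - x = 0
  · exact Or.inl (sub_eq_zero.1 h0)
  right
  obtain ⟨y, hy⟩ := mem_imV.1 hx
  set c := φ g x - x
  have hgx : φ g x = x + c := by simp only [c]; abel
  have hfix := m.eq_fix (hb.tel_ne h0 hy) (hb.fix_le_tel hy)
  have h1 : x - y ∈ fixV φ (hb.tel c) := by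
    rw [mem_fixV, map_sub, hb.tel_spec hgx, hb.tel_spec hy]; abel
  rw [← hfix, mem_fixV, map_sub, hy] at h1
  rw [hgx, show φ h x = (φ h x - (y + c)) + (y + c) by abel, h1]
  abel

include hinj

theorem Mx.sq_one {h : H} (m : Mx φ h) : h * h = 1 := by
  refine ext_act hinj fun x => ?_
  rw [act_one, act_mul]
  have h1 : φ h (φ h x) - x ∈ imV φ h := by
    rw [show φ h (φ h x) - x = dlt φ h (φ h x + x) by rw [dlt_apply, map_add]; abel]
    exact ⟨_, rfl⟩
  rcases m.uniq hb (g := h * h) (x := x) (by rwa [act_mul]) with h2 | h2 <;> rw [act_mul] at h2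
  · exact h2
  · have h3 : φ h x = x := act_inj h h2
    rw [h3, h3]

theorem Mx.inv_eq {h : H} (m : Mx φ h) : h⁻¹ = h := inv_eq_of_mul_eq_one_right (m.sq_one hb hinj)

theorem Mx.act_act {h : H} (m : Mx φ h) (v : V) : φ h (φ h v) = v := by
  rw [← act_mul, m.sq_one hb hinj, act_one]

theorem Mx.neg_im {h : H} (m : Mx φ h) {c : V} (hc : c ∈ imV φ h) : φ h c = -c := by
  obtain ⟨x, rfl⟩ := hc
  rw [dlt_apply, map_sub, m.act_act hb hinj, neg_sub]

/-- maximal elements are determined by any nonzero vector of their image -/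
theorem Mx.eq_of_meet {h h' : H} (m : Mx φ h) (m' : Mx φ h') {c : V} (hc : c ≠ 0) (hch : c ∈ imV φ h)
    (hch' : c ∈ imV φ h') : h = h' := by
  have hF : fixV φ h' = fixV φ h :=
    AddSubgroup.eq_of_le_of_card_ge (m.fix_le hb hc hch hch') (m.card_eq m').le
  obtain ⟨x, hx⟩ := mem_imV.1 hch'
  have hhx : φ h x = x + c := by
    rcases m.uniq hb (g := h') (x := x) (by rw [hx, add_sub_cancel_left]; exact hch) with h1 | h1
    · rw [hx, add_eq_left] at h1; exact absurd h1 hc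
    · rw [← h1, hx]
  by_contra hne
  have hg : h'⁻¹ * h ≠ 1 := fun he => hne (inv_mul_eq_one.1 he).symm
  have hle : fixV φ h ≤ fixV φ (h'⁻¹ * h) := fun v hv => by
    have hv' : v ∈ fixV φ h' := hF.symm ▸ hv
    rw [mem_fixV] at hv hv' ⊢
    rw [act_mul, hv]
    conv_lhs => rw [← hv', act_inv_cancel]
  have hxg : x ∈ fixV φ (h'⁻¹ * h) := by
    rw [mem_fixV, act_mul, hhx, ← hx, act_inv_cancel]
  rw [← m.eq_fix hg hle, mem_fixV, hhx, add_eq_left] at hxg
  exact hc hxg

theorem Mx.disjoint {h h' : H} (m : Mx φ h) (m' : Mx φ h') (hne : h ≠ h') :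
    ∀ c ∈ imV φ h, c ∈ imV φ h' → c = 0 := fun c h1 h2 => by
  by_contra hc
  exact hne (m.eq_of_meet hb hinj m' hc h1 h2)

theorem Mx.comm_of_meet {h h' : H} (m : Mx φ h) (m' : Mx φ h') {c : V} (hc : c ≠ 0)
    (hch' : c ∈ imV φ h') (hcf : c ∈ fixV φ h) : h * h' = h' * h := by
  have h1 : c ∈ imV φ (h * h' * h⁻¹) := by
    refine mem_imV_conj.2 ?_
    rw [m.inv_eq hb hinj, mem_fixV.1 hcf]; exact hch'
  have h2 := (m'.conj h).eq_of_meet hb hinj m' hc h1 hch'
  calc h * h' = h * h' * h⁻¹ * h := by group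
    _ = h' * h := by rw [h2]

theorem Mx.im_le_fix {h h' : H} (m : Mx φ h) (m' : Mx φ h') (hne : h ≠ h') (hcomm : h * h' = h' * h) :
    imV φ h' ≤ fixV φ h := by
  intro c hc
  refine mem_fixV.2 (sub_eq_zero.1 (m.disjoint hb hinj m' hne _ ⟨c, rfl⟩ ?_))
  refine sub_mem ?_ hc
  obtain ⟨x, hx⟩ := mem_imV.1 hc
  exact mem_imV.2 ⟨φ h x, by rw [← act_mul, ← hcomm, act_mul, hx, map_add]⟩

theorem Mx.disjoint_fix {h h' : H} (m : Mx φ h) (m' : Mx φ h') (hcomm : h * h' ≠ h' * h) :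
    ∀ c ∈ imV φ h', c ∈ fixV φ h → c = 0 := fun c h1 h2 => by
  by_contra hc
  exact hcomm (m.comm_of_meet hb hinj m' hc h1 h2)

theorem Mx.fix_sup {h h' : H} (m : Mx φ h) (m' : Mx φ h') (hcomm : h * h' ≠ h' * h) :
    fixV φ h ⊔ imV φ h' = ⊤ :=
  sup_eq_of_card (fun c h1 h2 => m.disjoint_fix hb hinj m' hcomm c h2 h1) le_top le_top
    (by rw [AddSubgroup.card_top, m.card_eq m', card_fix_mul_im])

end Cfsg.Lib.BinaryAffine
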