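import Cfsg.Agent.BinaryAffine.Irred
import Mathlib.Algebra.BigOperators.Group.Finset.Basic
import Mathlib.Data.Nat.Factorization.Basic
import Mathlib.Algebra.Ring.Parity

/-!
Binary linear groups in characteristic two: the fixed space of an involution is its image.
-/

set_option autoImplicit false
set_option linter.unusedSectionVars false

namespace Cfsg.Lib.BinaryAffine

variable {H : Type*} [Group H] [Finite H] {V : Type*} [AddCommGroup V] [Finite V]
variable {φ : H →* AddMonoid.End V}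

theorem sub_eq_add_two (h2 : ∀ v : V, v + v = 0) (a b : V) : a - b = a + b := by
  rw [sub_eq_add_neg, neg_eq_of_add_eq_zero_left (h2 b)]

theorem dlt_sq (h2 : ∀ v : V, v + v = 0) (g : H) (v : V) : dlt φ (g * g) v = dlt φ g (dlt φ g v) := by
  simp only [dlt_apply, act_mul, sub_eq_add_two h2, map_add]
  rw [show φ g (φ g v) + φ g v + (φ g v + v) = φ g (φ g v) + v + (φ g v + φ g v) by abel, h2, add_zero]

theorem dlt_two_pow (h2 : ∀ v : V, v + v = 0) (g : H) (r : ℕ) (v : V) :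
    dlt φ (g ^ 2 ^ r) v = (dlt φ g)^[2 ^ r] v := by
  induction r generalizing v with
  | zero => simp
  | succ r ih => rw [pow_succ, pow_mul, pow_two, dlt_sq h2, ih, ih, ← Function.iterate_add_apply, mul_two]

theorem imV_le_fix_of_sq (h2 : ∀ v : V, v + v = 0) {g : H} (hg : g * g = 1) : imV φ g ≤ fixV φ g := by
  rintro c ⟨x, rfl⟩
  rw [fixV, AddMonoidHom.mem_ker, ← dlt_sq h2, hg, dlt_apply, act_one, sub_self]

variable (h2 : ∀ v : V, v + v = 0) (hb : Bin φ) (hinj : Function.Injective φ)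
include h2 hb hinj

theorem Mx.im_le_self {h : H} (m : Mx φ h) : imV φ h ≤ fixV φ h := imV_le_fix_of_sq h2 (m.sq_one hb hinj)

/-- conjugate commuting maximal elements have the same fixed space -/
theorem fix_eq_of_comm {h a : H} (m : Mx φ h) (hcomm : h * (a * h * a⁻¹) = a * h * a⁻¹ * h) :
    fixV φ (a * h * a⁻¹) = fixV φ h := by
  by_contra hne
  set h' := a * h * a⁻¹ with hdef
  have hne' : h ≠ h' := fun e => hne (by rw [← e])
  have m' : Mx φ h' := m.conj a
  obtain ⟨x, hx, hu0⟩ := exists_pair hinj m hne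
  set u := φ h x - x with hu
  set w := φ h' x - x with hw
  have huh : u ∈ imV φ h := ⟨x, rfl⟩
  have hwh : w ∈ imV φ h' := ⟨x, rfl⟩
  have hwF : φ h w = w := mem_fixV.1 (m.im_le_fix hb hinj m' hne' hcomm hwh)
  have huF' : φ h' u = u := mem_fixV.1 (m'.im_le_fix hb hinj m hne'.symm hcomm.symm huh)
  have huF : φ h u = u := mem_fixV.1 (m.im_le_self h2 hb hinj huh)
  have he : φ (h * h') x = x + (u + w) := by
    rw [act_mul, show φ h' x = x + w by simp only [hw]; abel, map_add, hwF,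
      show φ h x = x + u by simp only [hu]; abel]
    abel
  have hue : u ∈ fixV φ (h * h') := mem_fixV.2 (by rw [act_mul, huF', huF])
  have hk1 : φ (hb.tel (u + w)) u = u := mem_fixV.1 (hb.fix_le_tel he hue)
  have hk2 := hb.tel_spec (c := u + w) (g := a) (x := u) (by rw [hx, ← add_assoc, h2, zero_add])
  rw [hk1, ← add_assoc, h2, zero_add] at hk2
  exact hu0 (m.disjoint hb hinj m' hne' u huh (hk2.symm ▸ hwh))

variable {h h' : H} (m : Mx φ h) (m' : Mx φ h') (hnc : h * h' ≠ h' * h)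
include m m' hnc

theorem pair_eq_zero {v : V} (hv : v ∈ imV φ h ⊔ imV φ h') (hf : v ∈ fixV φ h) : v ∈ imV φ h := by
  obtain ⟨w, hw, w', hw', rfl⟩ := AddSubgroup.mem_sup.1 hv
  have h1 : w' ∈ fixV φ h := by
    have := sub_mem hf (m.im_le_self h2 hb hinj hw)
    rwa [add_sub_cancel_left] at this
  rw [m.disjoint_fix hb hinj m' hnc w' hw' h1, add_zero]
  exact hw

theorem pair_inf_fix {v : V} (hv : v ∈ imV φ h ⊔ imV φ h') (hf : v ∈ fixV φ h) (hf' : v ∈ fixV φ h') : v = 0 :=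
  m'.disjoint_fix hb hinj m (fun e => hnc e.symm) v (pair_eq_zero h2 hb hinj m m' hnc hv hf) hf'

theorem fixV_pair : fixV φ (h * h') = fixV φ h ⊓ fixV φ h' :=
  fixV_mul (m.disjoint hb hinj m' fun e => hnc (by rw [e]))

theorem card_inter :
    Nat.card ↥(fixV φ h ⊓ fixV φ h') * Nat.card (imV φ h) = Nat.card (fixV φ h) := by
  have h1 : (fixV φ h ⊓ fixV φ h') ⊔ imV φ h' = fixV φ h' := by
    refine le_antisymm (sup_le inf_le_right (m'.im_le_self h2 hb hinj)) fun v hv => ?_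
    have h3 := AddSubgroup.mem_top v
    rw [← m.fix_sup hb hinj m' hnc] at h3
    obtain ⟨f, hf, w, hw, rfl⟩ := AddSubgroup.mem_sup.1 h3
    refine AddSubgroup.mem_sup.2 ⟨f, ⟨hf, ?_⟩, w, hw, rfl⟩
    have := sub_mem hv (m'.im_le_self h2 hb hinj hw)
    rwa [add_sub_cancel_right] at this
  have h3 := card_sup_disjoint (X := fixV φ h ⊓ fixV φ h') (Y := imV φ h') fun v hv hv' =>
    m.disjoint_fix hb hinj m' hnc v hv' hv.1
  rw [h1] at h3
  rw [m.card_eq m', h3, m.card_im_eq m']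

theorem imV_pair : imV φ (h * h') = imV φ h ⊔ imV φ h' := by
  refine AddSubgroup.eq_of_le_of_card_ge (imV_mul_le h h') (le_of_eq ?_)
  rw [card_sup_disjoint (m.disjoint hb hinj m' fun e => hnc (by rw [e])), m.card_im_eq m']
  refine Nat.eq_of_mul_eq_mul_left (n := Nat.card (fixV φ (h * h'))) Nat.card_pos ?_
  rw [card_fix_mul_im, fixV_pair h2 hb hinj m m' hnc, ← m.card_im_eq m', ← mul_assoc,
    card_inter h2 hb hinj m m' hnc, card_fix_mul_im]

/-- non-commuting maximal elements have a product of odd order -/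
theorem odd_order : Odd (orderOf (h * h')) := by
  rw [← Nat.not_even_iff_odd]
  rintro ⟨n, hn⟩
  set g := h * h'
  have hn0 : 0 < n := by
    have := orderOf_pos g
    omega
  have hi1 : g ^ n ≠ 1 := pow_ne_one_of_lt_orderOf hn0.ne' (by omega)
  have hi2 : g ^ n * g ^ n = 1 := by rw [← pow_add, ← hn, pow_orderOf_eq_one]
  have hinv : (g ^ n)⁻¹ = g ^ n := inv_eq_of_mul_eq_one_right hi2
  have hgi : h * g * h⁻¹ = g⁻¹ := by
    rw [mul_inv_rev, m.inv_eq hb hinj, m'.inv_eq hb hinj, ← mul_assoc, m.sq_one hb hinj, one_mul]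
  have hgi' : h' * g * h'⁻¹ = g⁻¹ := by
    rw [mul_inv_rev, m.inv_eq hb hinj, m'.inv_eq hb hinj, mul_assoc, mul_assoc, m'.sq_one hb hinj, mul_one]
  have hc : ∀ k, k * g * k⁻¹ = g⁻¹ → k * g ^ n = g ^ n * k := fun k hk => by
    have h1 : k * g ^ n * k⁻¹ = g ^ n := by rw [← conj_pow, hk, inv_pow, hinv]
    calc k * g ^ n = k * g ^ n * k⁻¹ * k := by group
      _ = g ^ n * k := by rw [h1]
  -- a fixed vector in the image
  obtain ⟨u, hu, hui, hu0⟩ : ∃ u ∈ imV φ h ⊔ imV φ h', φ (g ^ n) u = u ∧ u ≠ 0 := by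
    obtain ⟨u, hu, hu0⟩ := m.exists_moved hinj
    have huU : u ∈ imV φ h ⊔ imV φ h' := AddSubgroup.mem_sup_left hu
    by_cases hfix : φ (g ^ n) u = u
    · exact ⟨u, huU, hfix, hu0⟩
    refine ⟨φ (g ^ n) u - u, ?_, ?_, fun h0 => hfix (sub_eq_zero.1 h0)⟩
    · rw [← imV_pair h2 hb hinj m m' hnc]
      exact imV_pow_le g n ⟨u, rfl⟩
    · rw [map_sub, ← act_mul, hi2, act_one, sub_eq_add_two h2, sub_eq_add_two h2, add_comm]
  have hiU : imV φ (g ^ n) ≤ imV φ h ⊔ imV φ h' := (imV_pow_le g n).trans (imV_pair h2 hb hinj m m' hnc).le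
  -- the maximal element of the two not fixing `u`
  have key : ∀ k, Mx φ k → k * g ^ n = g ^ n * k → imV φ k ≤ imV φ h ⊔ imV φ h' →
      (∀ v ∈ imV φ h ⊔ imV φ h', v ∈ fixV φ k → v ∈ imV φ k) → u ∈ fixV φ k := by
    intro k mk hck hkU hUk
    by_contra huk
    have hd := mk.disjoint_of_not_le hb (g := g ^ n) fun hle => huk (hle (mem_fixV.2 hui))
    have h4 := AddSubgroup.card_le_of_le (sup_le hiU hkU)
    rw [card_sup_disjoint hd, card_sup_disjoint (m.disjoint hb hinj m' fun e => hnc (by subst e; rfl)),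
      m.card_im_eq mk, m'.card_im_eq mk] at h4
    have mi : Mx φ (g ^ n) := mk.of_im_le hi1 (Nat.le_of_mul_le_mul_right h4 Nat.card_pos)
    obtain ⟨c, hc, hc0⟩ := mi.exists_moved hinj
    have hne : k ≠ g ^ n := fun e => huk (e ▸ mem_fixV.2 hui)
    exact hc0 (hd c hc (hUk c (hiU hc) (mk.im_le_fix hb hinj mi hne hck hc)))
  have e1 := key h m (hc h hgi) le_sup_left fun v hv hf => pair_eq_zero h2 hb hinj m m' hnc hv hf
  have e2 := key h' m' (hc h' hgi') le_sup_right fun v hv hf =>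
    pair_eq_zero h2 hb hinj m' m (fun e => hnc e.symm) (sup_comm (imV φ h) (imV φ h') ▸ hv) hf
  exact hu0 (pair_inf_fix h2 hb hinj m m' hnc hu e1 e2)

theorem conj_of_noncomm : ∃ y, h' = y * h * y⁻¹ := by
  obtain ⟨k, hk⟩ := odd_order h2 hb hinj m m' hnc
  set g := h * h'
  refine ⟨g ^ k, ?_⟩
  have hgi : h * g⁻¹ * h⁻¹ = g := by
    rw [mul_inv_rev, m.inv_eq hb hinj, m'.inv_eq hb hinj, mul_assoc, mul_assoc, m.sq_one hb hinj, mul_one]
  have h1 : h * (g ^ k)⁻¹ * h⁻¹ = g ^ k := by rw [← inv_pow, ← conj_pow, hgi]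
  have h3 : g ^ k * g ^ k = g⁻¹ := by
    refine eq_inv_of_mul_eq_one_left ?_
    rw [← pow_add, ← pow_succ, ← two_mul, ← hk, pow_orderOf_eq_one]
  calc h' = g⁻¹ * h := by
        rw [mul_inv_rev, m.inv_eq hb hinj, m'.inv_eq hb hinj, mul_assoc, m.sq_one hb hinj, mul_one]
    _ = g ^ k * (h * (g ^ k)⁻¹ * h⁻¹) * h := by rw [h1, h3]
    _ = g ^ k * h * (g ^ k)⁻¹ := by group

/-- vectors fixed by both are not moved to -/
theorem lifting {e : H} (he : fixV φ h ⊓ fixV φ h' ≤ fixV φ e) {c : V} (hce : c ∈ imV φ e)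
    (hc : c ∈ fixV φ h) (hc' : c ∈ fixV φ h') : c = 0 := by
  by_contra hc0
  set g := h * h'
  have hgc : ∀ j : ℕ, φ (g ^ j) c = c := fun j =>
    mem_fixV.1 (fixV_pow g j ((fixV_pair h2 hb hinj m m' hnc).ge ⟨hc, hc'⟩))
  obtain ⟨x, hx⟩ := mem_imV.1 hce
  set K := fixV φ (hb.tel c)
  have hFK : fixV φ h ⊓ fixV φ h' ≤ K := he.trans (hb.fix_le_tel hx)
  have hj : ∀ j, φ (g ^ j) x - x ∈ K := fun j => by
    have h1 : φ (g ^ j * e * (g ^ j)⁻¹) (φ (g ^ j) x) = φ (g ^ j) x + c := by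
      rw [act_mul, act_mul, act_inv_cancel, hx, map_add, hgc]
    rw [mem_fixV, map_sub, hb.tel_spec h1, hb.tel_spec hx]
    abel
  set n := orderOf g
  have hS : ∑ j ∈ Finset.range n, φ (g ^ j) x ∈ K := by
    refine hFK ((fixV_pair h2 hb hinj m m' hnc).le ?_)
    rw [mem_fixV, map_sum]
    have h3 : ∀ j, φ g (φ (g ^ j) x) = φ (g ^ (j + 1)) x := fun j => by rw [← act_mul, pow_succ']
    rw [Finset.sum_congr rfl fun j _ => h3 j]
    have h4 := Finset.sum_range_succ' (fun j => φ (g ^ j) x) n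
    rw [Finset.sum_range_succ, pow_orderOf_eq_one, pow_zero] at h4
    exact add_right_cancel h4.symm
  have hnx : n • x ∈ K := by
    have h5 := sub_mem hS (sum_mem (t := Finset.range n) fun j _ => hj j)
    rw [Finset.sum_sub_distrib, sub_sub_cancel, Finset.sum_const, Finset.card_range] at h5
    exact h5
  obtain ⟨k, hk⟩ := odd_order h2 hb hinj m m' hnc
  rw [show n = 2 * k + 1 from hk, add_nsmul, one_nsmul, mul_comm, mul_nsmul', two_nsmul, h2, nsmul_zero,
    zero_add, mem_fixV, hb.tel_spec hx, add_eq_left] at hnx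
  exact hc0 hnx

end Cfsg.Lib.BinaryAffine
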