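import Cfsg.Agent.BinaryAffine.Even

/-!
Binary irreducible linear groups in characteristic two: the involutions fix exactly their image.
-/

set_option autoImplicit false
set_option linter.unusedSectionVars false

namespace Cfsg.Lib.BinaryAffine

variable {H : Type*} [Group H] [Finite H] {V : Type*} [AddCommGroup V] [Finite V]
variable {φ : H →* AddMonoid.End V}

theorem dlt_iterate_act (g k : H) (hc : Commute k g) (n : ℕ) (v : V) :
    (dlt φ g)^[n] (φ k v) = φ k ((dlt φ g)^[n] v) := by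
  induction n generalizing v with
  | zero => rfl
  | succ n ih =>
    rw [Function.iterate_succ_apply, Function.iterate_succ_apply, ← ih]
    congr 1
    rw [dlt_apply, dlt_apply, map_sub, ← act_mul, ← act_mul, hc.eq]

variable (h2 : ∀ v : V, v + v = 0) (hb : Bin φ) (hinj : Function.Injective φ) (hirr : Irr φ)
include h2 hb hinj

/-- a maximal involution is no square -/
theorem not_mx_two_pow {g : H} (r : ℕ) : ¬ Mx φ (g ^ 2 ^ (r + 1)) := by
  intro m
  set z := g ^ 2 ^ (r + 1) with hz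
  set j := 2 ^ (r + 1) with hj
  have hj2 : 2 ≤ j := by rw [hj, pow_succ]; have := Nat.one_le_two_pow (n := r); omega
  have hD : ∀ v, dlt φ z v = (dlt φ g)^[j] v := fun v => dlt_two_pow h2 g (r + 1) v
  have hD2 : ∀ v, (dlt φ g)^[j + j] v = 0 := fun v => by
    rw [Function.iterate_add_apply, ← hD, ← hD, ← dlt_sq h2, m.sq_one hb hinj, dlt_apply, act_one, sub_self]
  refine m.1 (ext_act hinj fun v => ?_)
  rw [act_one, ← sub_eq_zero, ← dlt_apply, hD]
  set u := (dlt φ g)^[j] v with hu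
  have hrec : u = (dlt φ g)^[j - 1] u ∨ u = 0 := by
    set y := (dlt φ g)^[j - 1] v with hy
    have hgy : φ g y - y = u := by
      rw [← dlt_apply, hy, ← Function.iterate_succ_apply' (f := dlt φ g), hu, show (j - 1).succ = j by omega]
    rcases m.uniq hb (g := g) (x := y) (by rw [hgy, hu, ← hD]; exact ⟨v, rfl⟩) with h1 | h1
    · right; rw [← hgy, h1, sub_self]
    · left
      calc u = φ z y - y := by rw [← hgy, h1]
        _ = (dlt φ g)^[j] y := by rw [← hD]; rfl
        _ = (dlt φ g)^[j - 1] u := by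
          rw [hy, hu, ← Function.iterate_add_apply, ← Function.iterate_add_apply, add_comm]
  rcases hrec with h | h
  · have hall : ∀ i, u = (dlt φ g)^[(j - 1) * i] u := fun i => by
      induction i with
      | zero => simp
      | succ i ih => rw [Nat.mul_succ, Function.iterate_add_apply, ← h]; exact ih
    have hge : j + j ≤ (j - 1) * (j + j) := Nat.le_mul_of_pos_left _ (by omega)
    rw [hall (j + j), ← Nat.sub_add_cancel hge, Function.iterate_add_apply, hD2]
    exact iterate_map_zero (dlt φ g) _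
  · exact h

variable {h : H} (m : Mx φ h) (hne : fixV φ h ≠ ⊥)
include hirr m hne

theorem exists_noncomm_even : ∃ a, h * (a * h * a⁻¹) ≠ a * h * a⁻¹ * h := by
  obtain ⟨a, ha⟩ := escape hinj hirr m hne
  exact ⟨a, fun hc => ha (fix_eq_of_comm h2 hb hinj m hc).ge⟩

theorem small_even : Nat.card (fixV φ h) = Nat.card (imV φ h) := by
  refine le_antisymm ?_ (card_im_le_fix hb hinj hirr m hne)
  by_contra hbig
  obtain ⟨a, hnc⟩ := exists_noncomm_even h2 hb hinj hirr m hne
  set s := a * h * a⁻¹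
  have ms : Mx φ s := m.conj a
  have hF12 : fixV φ (h * s) ≠ ⊥ := fun he => hbig (by
    have h1 := card_inter h2 hb hinj m ms hnc
    rw [← fixV_pair h2 hb hinj m ms hnc, he, AddSubgroup.card_bot, one_mul] at h1
    exact h1.ge)
  obtain ⟨b, hb3⟩ := escape hinj hirr m hF12
  set t := b * h * b⁻¹
  have mt : Mx φ t := m.conj b
  rw [fixV_pair h2 hb hinj m ms hnc] at hb3
  have hnc' : s * t ≠ t * s := fun hc => by
    have ht : t = (b * a⁻¹) * s * (b * a⁻¹)⁻¹ := by simp only [t, s]; group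
    rw [ht] at hc
    exact hb3 (inf_le_right.trans ((fix_eq_of_comm h2 hb hinj ms hc).ge.trans (le_of_eq (by rw [ht]))))
  have hnot : ¬ fixV φ s ⊓ fixV φ t ≤ fixV φ h := fun hle => hb3 (by
    have h1 : fixV φ s ⊓ fixV φ t ≤ fixV φ h ⊓ fixV φ s := le_inf hle inf_le_left
    have h3 : Nat.card ↥(fixV φ s ⊓ fixV φ t) = Nat.card ↥(fixV φ h ⊓ fixV φ s) := by
      have e1 := card_inter h2 hb hinj m ms hnc
      have e2 := card_inter h2 hb hinj ms mt hnc'
      rw [ms.card_im_eq m, ms.card_eq m, ← e1] at e2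
      exact Nat.eq_of_mul_eq_mul_right Nat.card_pos e2
    rw [← AddSubgroup.eq_of_le_of_card_ge h1 h3.ge]
    exact inf_le_right)
  -- a vector fixed by `h` and moved to by `s * t`
  obtain ⟨c, hcim, hcf, hc0⟩ : ∃ c ∈ imV φ (s * t), c ∈ fixV φ h ∧ c ≠ 0 := by
    refine exists_common (Z := ⊤) le_top le_top ?_
    have hq : 1 < Nat.card (imV φ h) := by
      obtain ⟨c, hc, hc0⟩ := m.exists_moved hinj
      by_contra hle
      haveI := (Finite.card_le_one_iff_subsingleton (α := imV φ h)).1 (not_lt.1 hle)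
      exact hc0 (congrArg Subtype.val (Subsingleton.elim (⟨c, hc⟩ : imV φ h) 0))
    rw [AddSubgroup.card_top, imV_pair h2 hb hinj ms mt hnc',
      card_sup_disjoint (ms.disjoint hb hinj mt fun e => hnc' (by rw [e])), ms.card_im_eq m, mt.card_im_eq m,
      ← card_fix_mul_im (φ := φ) h]
    rw [mul_comm (Nat.card (fixV φ h))]
    have h5 : Nat.card (imV φ h) < Nat.card (imV φ h) * Nat.card (imV φ h) := by nlinarith
    exact lt_of_lt_of_le (Nat.mul_lt_mul_of_pos_right h5 Nat.card_pos) (le_of_eq (by ring))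
  obtain ⟨x, hx⟩ := mem_imV.1 hcim
  set k := hb.tel c
  have hkx : φ k x = x + c := hb.tel_spec hx
  have hkxc : φ k (x + c) = x := by
    have h1 : φ (s * t)⁻¹ (x + c) = x + c + c := by
      rw [add_assoc, h2, add_zero]
      conv_lhs => rw [← hx, act_inv_cancel]
    rw [hb.tel_spec h1, add_assoc, h2, add_zero]
  have hkk : φ (k * k) x = x := by rw [act_mul, hkx, hkxc]
  have hkc : φ k c = c := by
    rw [map_add, hkx, add_assoc, add_eq_left] at hkxc
    rw [← sub_eq_zero, sub_eq_add_two h2, add_comm]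
    exact hkxc
  have hFk : fixV φ s ⊓ fixV φ t ≤ fixV φ k := (fixV_pair h2 hb hinj ms mt hnc').ge.trans (hb.fix_le_tel hx)
  obtain ⟨r, o, ho, hro⟩ := Nat.exists_eq_two_pow_mul_odd (orderOf_pos k).ne'
  obtain ⟨i, rfl⟩ := ho
  set k' := k ^ (2 * i + 1)
  have hk'x : φ k' x = x + c := by
    show φ (k ^ (2 * i + 1)) x = x + c
    rw [pow_succ', act_mul, pow_mul, pow_two, mem_fixV.1 (fixV_pow (k * k) i (mem_fixV.2 hkk)), hkx]
  have hFk' : fixV φ s ⊓ fixV φ t ≤ fixV φ k' := fun v hv => fixV_pow k _ (hFk hv)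
  have hk'1 : k' ≠ 1 := fun he => hc0 (by rw [he, act_one, left_eq_add] at hk'x; exact hk'x)
  have hord : k' ^ 2 ^ r = 1 := by
    rw [← pow_mul, mul_comm, ← hro, pow_orderOf_eq_one]
  -- the central involution
  obtain ⟨r', hr'1, hr'2⟩ : ∃ r', k' ^ 2 ^ r' ≠ 1 ∧ k' ^ 2 ^ (r' + 1) = 1 := by
    clear hro
    induction r with
    | zero => exact absurd (by simpa using hord) hk'1
    | succ r ih =>
      by_cases h1 : k' ^ 2 ^ r = 1
      · exact ih h1
      · exact ⟨r, h1, hord⟩
  set z := k' ^ 2 ^ r' with hz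
  have hzz : z * z = 1 := by rw [← pow_two, ← pow_mul, ← pow_succ]; exact hr'2
  have hFz : fixV φ s ⊓ fixV φ t ≤ fixV φ z := fun v hv => fixV_pow k' _ (hFk' hv)
  have hzm : Mx φ z := by
    have h4 := AddSubgroup.card_le_of_le (sup_le hFz (imV_le_fix_of_sq h2 hzz))
    rw [card_sup_disjoint (fun v (hv : v ∈ fixV φ s ⊓ fixV φ t) hv' => lifting h2 hb hinj ms mt hnc' hFz hv' hv.1 hv.2)] at h4
    refine ms.of_im_le hr'1 ?_
    have e2 := card_inter h2 hb hinj ms mt hnc'
    have e3 := card_fix_mul_im (φ := φ) z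
    have e4 := card_fix_mul_im (φ := φ) s
    have hpos : 0 < Nat.card ↥(fixV φ s ⊓ fixV φ t) := Nat.card_pos
    by_contra hlt
    push Not at hlt
    have h6 : Nat.card (fixV φ z) * Nat.card (imV φ z) = Nat.card ↥(fixV φ s ⊓ fixV φ t) * Nat.card (imV φ s) *
        Nat.card (imV φ s) := by rw [e3, e2, e4]
    nlinarith [mul_lt_mul'' hlt hlt (Nat.zero_le _) (Nat.zero_le _)]
  obtain rfl : r' = 0 := by
    by_contra hr0
    obtain ⟨r'', rfl⟩ := Nat.exists_eq_succ_of_ne_zero hr0
    exact not_mx_two_pow h2 hb hinj r'' hzm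
  simp only [pow_zero, pow_one] at hz
  rw [hz] at hzm
  have hck : c ∈ imV φ k' := mem_imV.2 ⟨x, hk'x⟩
  -- it is conjugate to `h`
  obtain ⟨y, hy⟩ : ∃ y, k' = y * h * y⁻¹ := by
    by_cases hks : k' = s
    · exact ⟨a, hks⟩
    by_cases hcs : s * k' = k' * s
    · by_cases hkt : k' = t
      · exact ⟨b, hkt⟩
      by_cases hct : t * k' = k' * t
      · exact absurd (lifting h2 hb hinj ms mt hnc' hFk' hck
          (ms.im_le_fix hb hinj hzm (Ne.symm hks) hcs hck)
          (mt.im_le_fix hb hinj hzm (Ne.symm hkt) hct hck)) hc0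
      · obtain ⟨y, hy⟩ := conj_of_noncomm h2 hb hinj mt hzm hct
        exact ⟨y * b, by rw [hy]; simp only [t]; group⟩
    · obtain ⟨y, hy⟩ := conj_of_noncomm h2 hb hinj ms hzm hcs
      exact ⟨y * a, by rw [hy]; simp only [s]; group⟩
  rw [hy] at hzm hck hFk'
  have hcomm := m.comm_of_meet hb hinj hzm hc0 hck hcf
  exact hnot (hFk'.trans (fix_eq_of_comm h2 hb hinj m hcomm).le)

end Cfsg.Lib.BinaryAffine
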