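import Cfsg.Agent.BinaryAffine.Core
import Mathlib.Data.Nat.Prime.Basic
import Mathlib.GroupTheory.Perm.Cycle.Type

/-!
Irreducible binary linear groups: the semiregular case, fixed-point-free elements, sizes of fixed spaces.
-/

set_option autoImplicit false
set_option linter.unusedSectionVars false

namespace Cfsg.Lib.BinaryAffine

variable {H : Type*} [Group H] [Finite H] {V : Type*} [AddCommGroup V] [Finite V]
variable {φ : H →* AddMonoid.End V}

/-- no invariant subgroups -/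
def Irr (φ : H →* AddMonoid.End V) : Prop :=
  ∀ A : AddSubgroup V, (∀ g, ∀ v ∈ A, φ g v ∈ A) → A = ⊥ ∨ A = ⊤

theorem fixV_le_top_iff (hinj : Function.Injective φ) {g : H} : fixV φ g = ⊤ ↔ g = 1 := by
  constructor
  · exact fun h => ext_act hinj fun v => by rw [act_one]; exact mem_fixV.1 (h ▸ AddSubgroup.mem_top v)
  · rintro rfl; exact eq_top_iff.2 fun v _ => mem_fixV.2 (act_one v)

theorem card_restrict (X : AddSubgroup V) (g : H) :
    Nat.card X ≤ Nat.card ↥(X ⊓ fixV φ g) * Nat.card (imV φ g) := by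
  let f : X →+ V := (dlt φ g).comp X.subtype
  have h1 := AddSubgroup.card_eq_card_quotient_mul_card_addSubgroup f.ker
  rw [Nat.card_congr (QuotientAddGroup.quotientKerEquivRange f).toEquiv] at h1
  have h2 : Nat.card f.range ≤ Nat.card (imV φ g) := AddSubgroup.card_le_of_le (by
    rintro c ⟨x, rfl⟩; exact ⟨(x : V), rfl⟩)
  have h3 : Nat.card f.ker = Nat.card ↥(X ⊓ fixV φ g) := Nat.card_congr
    { toFun := fun v => ⟨v.1.1, v.1.2, v.2⟩
      invFun := fun v => ⟨⟨v.1, v.2.1⟩, v.2.2⟩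
      left_inv := fun _ => rfl
      right_inv := fun _ => rfl }
  rw [h1, h3, mul_comm]
  exact Nat.mul_le_mul le_rfl h2

variable (hb : Bin φ) (hinj : Function.Injective φ) (hirr : Irr φ)
include hb hinj hirr

omit hirr in
/-- the semiregular case -/
theorem card_le_two (hf : ∀ g : H, g ≠ 1 → fixV φ g = ⊥) (hV : (⊤ : AddSubgroup V) ≠ ⊥) : Nat.card H ≤ 2 := by
  classical
  have him : ∀ g : H, g ≠ 1 → imV φ g = ⊤ := fun g hg => by
    refine AddSubgroup.eq_of_le_of_card_ge le_top ?_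
    rw [AddSubgroup.card_top, ← card_fix_mul_im (φ := φ) g, hf g hg, AddSubgroup.card_bot, one_mul]
  obtain ⟨c, -, hc⟩ : ∃ c ∈ (⊤ : AddSubgroup V), c ≠ 0 := by
    by_contra hcon
    push Not at hcon
    exact hV (eq_bot_iff.2 fun v hv => by simp [hcon v hv])
  have hall : ∀ g g' : H, g ≠ 1 → g' ≠ 1 → g = g' := by
    intro g g' hg hg'
    obtain ⟨x, hx⟩ := mem_imV.1 (him g hg ▸ AddSubgroup.mem_top c)
    obtain ⟨y, hy⟩ := mem_imV.1 (him g' hg' ▸ AddSubgroup.mem_top c)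
    have h1 : x - y ∈ fixV φ (hb.tel c) := by
      rw [mem_fixV, map_sub, hb.tel_spec hx, hb.tel_spec hy]; abel
    rw [hf _ (hb.tel_ne hc hx), AddSubgroup.mem_bot, sub_eq_zero] at h1
    subst h1
    by_contra hne
    have h2 : x ∈ fixV φ (g'⁻¹ * g) := by
      rw [mem_fixV, act_mul, hx, ← hy, act_inv_cancel]
    rw [hf _ (fun he => hne (inv_mul_eq_one.1 he).symm), AddSubgroup.mem_bot] at h2
    rw [h2, map_zero, zero_add] at hx
    exact hc hx.symm
  haveI := Fintype.ofFinite H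
  rw [Nat.card_eq_fintype_card, ← Finset.card_univ]
  have : (Finset.univ.erase (1 : H)).card ≤ 1 := Finset.card_le_one.2 fun a ha b hb' =>
    hall a b (Finset.ne_of_mem_erase ha) (Finset.ne_of_mem_erase hb')
  rw [Finset.card_erase_of_mem (Finset.mem_univ _)] at this
  omega

/-- the semiregular case is one-dimensional -/
theorem card_prime (hf : ∀ g : H, g ≠ 1 → fixV φ g = ⊥) (hV : (⊤ : AddSubgroup V) ≠ ⊥) :
    (Nat.card V).Prime := by
  have hstab : ∀ A : AddSubgroup V, ∀ g, ∀ v ∈ A, φ g v ∈ A := by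
    intro A g v hv
    by_cases hg : g = 1
    · subst hg; rwa [act_one]
    have m : Mx φ g := ⟨hg, fun a ha => by rw [hf a ha, hf g hg]⟩
    rw [m.neg_im hb hinj (c := v) ?_]
    · exact neg_mem hv
    · rw [show imV φ g = ⊤ from ?_]
      · exact AddSubgroup.mem_top v
      · refine AddSubgroup.eq_of_le_of_card_ge le_top ?_
        rw [AddSubgroup.card_top, ← card_fix_mul_im (φ := φ) g, hf g hg, AddSubgroup.card_bot, one_mul]
  have hlt : 1 < Nat.card V := by
    by_contra hlt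
    exact hV (eq_bot_iff.2 fun v _ => by
      haveI := (Finite.card_le_one_iff_subsingleton (α := V)).1 (not_lt.1 hlt)
      simp [Subsingleton.elim v 0])
  obtain ⟨r, hr, hrdvd⟩ := Nat.exists_prime_and_dvd hlt.ne'
  haveI := Fact.mk hr
  obtain ⟨x, hx⟩ := exists_prime_addOrderOf_dvd_card' r hrdvd
  rcases hirr (AddSubgroup.zmultiples x) (hstab _) with h1 | h1
  · have hx0 : x = 0 := by simpa using h1
    rw [hx0, addOrderOf_zero] at hx
    exact absurd hx.symm hr.ne_one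
  · rw [← AddSubgroup.card_top (G := V), ← h1, Nat.card_zmultiples, hx]
    exact hr

variable {h : H} (m : Mx φ h) (hne : fixV φ h ≠ ⊥)
include m

omit hb in
theorem escape {g : H} (hg : fixV φ g ≠ ⊥) : ∃ a, ¬ fixV φ g ≤ fixV φ (a * h * a⁻¹) := by
  by_contra hcon
  push Not at hcon
  let A : AddSubgroup V := ⨅ a, fixV φ (a * h * a⁻¹)
  have hA : ∀ b, ∀ v ∈ A, φ b v ∈ A := fun b v hv => by
    simp only [A, AddSubgroup.mem_iInf] at hv ⊢
    intro a
    refine mem_fixV_conj.2 ?_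
    rw [← act_mul]
    have h1 := mem_fixV_conj.1 (hv (b⁻¹ * a))
    rwa [mul_inv_rev, inv_inv] at h1
  rcases hirr A hA with h1 | h1
  · exact hg (eq_bot_iff.2 (h1 ▸ le_iInf hcon))
  · refine m.1 ((fixV_le_top_iff hinj).1 (eq_top_iff.2 ?_))
    rw [← h1]
    exact (iInf_le _ 1).trans (by simp)

theorem exists_fpf : ∃ g, fixV φ g = ⊥ := by
  classical
  haveI := Fintype.ofFinite H
  obtain ⟨g, -, hg⟩ := (Finset.univ : Finset H).exists_min_image (fun g => Nat.card (fixV φ g))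
    Finset.univ_nonempty
  refine ⟨g, ?_⟩
  by_contra hne'
  obtain ⟨a, ha⟩ := escape hinj hirr m hne'
  have h1 := fixV_mul ((m.conj a).disjoint_of_not_le hb ha)
  have h2 : fixV φ (g * (a * h * a⁻¹)) < fixV φ g :=
    lt_of_le_of_ne (h1 ▸ inf_le_left) fun he => ha (he ▸ (h1 ▸ inf_le_right))
  exact absurd (hg _ (Finset.mem_univ _))
    (not_le.2 (lt_of_le_of_ne (AddSubgroup.card_le_of_le h2.le) fun he => h2.ne
      (AddSubgroup.eq_of_le_of_card_ge h2.le he.ge)))

/-- fixed spaces are trivial or at least as large as `[V, h]` -/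
theorem card_im_le_fix {g : H} (hg : fixV φ g ≠ ⊥) : Nat.card (imV φ h) ≤ Nat.card (fixV φ g) := by
  obtain ⟨a, ha⟩ := escape hinj hirr m hg
  have h1 := card_mul_le ((m.conj a).disjoint_of_not_le hb ha)
  rw [(m.conj a).card_im_eq m, ← card_fix_mul_im (φ := φ) g, mul_comm (Nat.card (fixV φ g))] at h1
  exact Nat.le_of_mul_le_mul_left h1 Nat.card_pos

theorem mx_of_small (hsmall : Nat.card (fixV φ h) = Nat.card (imV φ h)) {g : H} (hg1 : g ≠ 1)
    (hg : fixV φ g ≠ ⊥) : Mx φ g :=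
  ⟨hg1, fun a ha => (m.2 a ha).trans (hsmall.le.trans (card_im_le_fix hb hinj hirr m hg))⟩

omit hirr hb in
theorem exists_pair {a : H} (hne' : fixV φ (a * h * a⁻¹) ≠ fixV φ h) :
    ∃ x, φ a (φ h x - x) = φ (a * h * a⁻¹) x - x ∧ φ h x - x ≠ 0 := by
  let h' := a * h * a⁻¹
  let ψ : V →+ V := (φ a : V →+ V).comp (dlt φ h) - dlt φ h'
  have hψ : ψ.range ≤ imV φ h' := by
    rintro c ⟨x, rfl⟩
    refine sub_mem (mem_imV_conj.2 ?_) ⟨x, rfl⟩
    show φ a⁻¹ (φ a (dlt φ h x)) ∈ imV φ h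
    rw [act_inv_cancel]
    exact ⟨x, rfl⟩
  have h1 := AddSubgroup.card_eq_card_quotient_mul_card_addSubgroup ψ.ker
  rw [Nat.card_congr (QuotientAddGroup.quotientKerEquivRange ψ).toEquiv] at h1
  have h2 : Nat.card (fixV φ h) ≤ Nat.card ψ.ker := by
    by_contra hlt
    have h3 := Nat.mul_lt_mul_of_lt_of_le (not_le.1 hlt) ((AddSubgroup.card_le_of_le hψ).trans
      ((m.conj a).card_im_eq m).le) Nat.card_pos
    rw [mul_comm (Nat.card ψ.ker), ← h1, card_fix_mul_im] at h3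
    exact lt_irrefl _ h3
  have h4 : ¬ ψ.ker ≤ fixV φ h ⊓ fixV φ h' := fun hle => hne' (by
    have h5 : fixV φ h ⊓ fixV φ h' = fixV φ h :=
      AddSubgroup.eq_of_le_of_card_ge inf_le_left (h2.trans (AddSubgroup.card_le_of_le hle))
    exact (AddSubgroup.eq_of_le_of_card_ge (inf_eq_left.1 h5) ((m.conj a).card_eq m).le).symm)
  obtain ⟨x, hx, hx'⟩ := SetLike.not_le_iff_exists.1 h4
  have hx0 : φ a (φ h x - x) = φ h' x - x := sub_eq_zero.1 hx
  refine ⟨x, hx0, fun h0 => hx' ⟨sub_eq_zero.1 h0 |> mem_fixV.2, mem_fixV.2 (sub_eq_zero.1 ?_)⟩⟩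
  rw [← hx0, h0, map_zero]

end Cfsg.Lib.BinaryAffine
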