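import Cfsg.Agent.BinaryAffine.Irred

/-!
Binary linear groups in odd characteristic: orthogonality.
-/

set_option autoImplicit false
set_option linter.unusedSectionVars false

namespace Cfsg.Lib.BinaryAffine

variable {H : Type*} [Group H] [Finite H] {V : Type*} [AddCommGroup V] [Finite V]
variable {φ : H →* AddMonoid.End V}

/-- `u` is fixed and `c` negated by one element -/
def Orth (φ : H →* AddMonoid.End V) (u c : V) : Prop := ∃ k, φ k u = u ∧ φ k c = -c

/-- the hypotheses in odd characteristic -/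
structure OddSit (φ : H →* AddMonoid.End V) : Prop where
  bin : Bin φ
  inj : Function.Injective φ
  half : ∃ t : ℕ, ∀ v : V, t • (v + v) = v
  neg : ∃ ν, ∀ v, φ ν v = -v

theorem OddSit.eq_zero (o : OddSit φ) {v : V} (h : v + v = 0) : v = 0 := by
  obtain ⟨t, ht⟩ := o.half
  rw [← ht v, h, nsmul_zero]

theorem OddSit.eq_zero_of_neg (o : OddSit φ) {v : V} (h : v = -v) : v = 0 :=
  o.eq_zero (by nth_rw 2 [h]; exact add_neg_cancel v)

theorem OddSit.of_fpf (hb : Bin φ) (hinj : Function.Injective φ) (half : ∃ t : ℕ, ∀ v : V, t • (v + v) = v)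
    {g : H} (hg : fixV φ g = ⊥) : OddSit φ := by
  classical
  have him : imV φ g = ⊤ := by
    refine AddSubgroup.eq_of_le_of_card_ge le_top ?_
    rw [AddSubgroup.card_top, ← card_fix_mul_im (φ := φ) g, hg, AddSubgroup.card_bot, one_mul]
  have hflip : ∀ c : V, ∃ k, φ k c = -c := fun c => by
    obtain ⟨x, hx⟩ := mem_imV.1 (him ▸ AddSubgroup.mem_top c)
    have h1 : φ g⁻¹ (-φ g x) = -φ g x + c := by rw [map_neg, act_inv_cancel, hx]; abel
    refine ⟨hb.tel c, ?_⟩
    have h2 := hb.tel_spec hx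
    have h3 := hb.tel_spec h1
    rw [map_neg, hx, map_add, h2] at h3
    calc φ (hb.tel c) c = -(-(x + c + φ (hb.tel c) c)) - (x + c) := by abel
      _ = -c := by rw [h3]; abel
  haveI := Fintype.ofFinite V
  let e := (Fintype.equivFin V).symm
  obtain ⟨ν, hν⟩ := hb _ (fun i => e i) (fun i => -(e i)) (fun i => hflip _) fun i j => by
    obtain ⟨k, hk⟩ := hflip (e i - e j)
    exact ⟨k, by rw [hk]; abel⟩
  refine ⟨hb, hinj, half, ν, fun v => ?_⟩
  obtain ⟨i, rfl⟩ := e.surjective v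
  exact hν i

variable (o : OddSit φ)
include o

theorem OddSit.symm {u c : V} (h : Orth φ u c) : Orth φ c u := by
  obtain ⟨k, h1, h2⟩ := h
  obtain ⟨ν, hν⟩ := o.neg
  exact ⟨ν * k, by rw [act_mul, h2, hν, neg_neg], by rw [act_mul, h1, hν]⟩

theorem OddSit.self {u : V} (h : Orth φ u u) : u = 0 := by
  obtain ⟨k, h1, h2⟩ := h
  exact o.eq_zero_of_neg (h1.symm.trans h2)

omit o in
theorem Orth.map {u c : V} (h : Orth φ u c) (g : H) : Orth φ (φ g u) (φ g c) := by
  obtain ⟨k, h1, h2⟩ := h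
  exact ⟨g * k * g⁻¹, by rw [act_mul, act_mul, act_inv_cancel, h1],
    by rw [act_mul, act_mul, act_inv_cancel, h2, map_neg]⟩

theorem OddSit.tel_neg (c : V) : φ (o.bin.tel c) c = -c ∧ ∃ x g, φ g x = x + c := by
  obtain ⟨ν, hν⟩ := o.neg
  obtain ⟨t, ht⟩ := o.half
  have h1 : φ ν (-(t • c)) = -(t • c) + c := by
    rw [hν, neg_neg]
    conv_rhs => arg 2; rw [← ht c, nsmul_add]
    abel
  refine ⟨?_, _, ν, h1⟩
  have h2 := o.bin.tel_spec h1
  rw [map_neg] at h2
  have h3 : φ (o.bin.tel c) c = φ (o.bin.tel c) (t • c) + φ (o.bin.tel c) (t • c) := by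
    rw [← map_add, ← nsmul_add, ht]
  rw [h3, show φ (o.bin.tel c) (t • c) = -(-(φ (o.bin.tel c) (t • c))) by abel, h2]
  have h4 : t • c + t • c = c := by rw [← nsmul_add, ht]
  calc -(-(t • c) + c) + -(-(t • c) + c) = (t • c + t • c) - c - c := by abel
    _ = -c := by rw [h4]; abel

theorem OddSit.orth_iff {c : V} (u : V) : c ≠ 0 → (Orth φ u c ↔ u ∈ fixV φ (o.bin.tel c)) := by
  intro _
  refine ⟨?_, fun h => ⟨_, mem_fixV.1 h, (o.tel_neg c).1⟩⟩
  rintro ⟨k, h1, h2⟩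
  obtain ⟨t, ht⟩ := o.half
  have h4 : t • c + t • c = c := by rw [← nsmul_add, ht]
  have e1 : φ k (t • (u - c)) = t • (u - c) + c := by
    rw [map_nsmul, map_sub, h1, h2]
    calc t • (u - -c) = t • u - t • c + (t • c + t • c) := by rw [sub_neg_eq_add, nsmul_add]; abel
      _ = t • (u - c) + c := by rw [h4, nsmul_sub]
  have e2 : φ k (-(t • c)) = -(t • c) + c := by
    rw [map_neg, map_nsmul, h2, neg_nsmul, neg_neg]
    calc t • c = -(t • c) + (t • c + t • c) := by abel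
      _ = -(t • c) + c := by rw [h4]
  have f1 := o.bin.tel_spec e1
  have f2 := o.bin.tel_spec e2
  have h5 : φ (o.bin.tel c) (t • u) = t • u := by
    rw [show t • u = t • (u - c) - -(t • c) by rw [nsmul_sub]; abel, map_sub, f1, f2]; abel
  rw [mem_fixV]
  rw [← ht u, nsmul_add, map_add, h5]

theorem OddSit.orth_add {u v c : V} (hu : Orth φ u c) (hv : Orth φ v c) : Orth φ (u + v) c := by
  by_cases hc : c = 0
  · exact ⟨1, act_one _, by rw [act_one, hc, neg_zero]⟩
  rw [o.orth_iff _ hc] at *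
  exact add_mem hu hv

theorem OddSit.orth_zero (c : V) : Orth φ 0 c := by
  obtain ⟨ν, hν⟩ := o.neg
  exact ⟨ν, by rw [hν, neg_zero], hν c⟩

theorem OddSit.orth_neg {u c : V} (h : Orth φ u c) : Orth φ (-u) c := by
  obtain ⟨k, h1, h2⟩ := h
  exact ⟨k, by rw [map_neg, h1], h2⟩

/-- the vectors orthogonal to a subgroup -/
def OddSit.perp (A : AddSubgroup V) : AddSubgroup V where
  carrier := {v | ∀ a ∈ A, Orth φ v a}
  zero_mem' := fun a _ => o.orth_zero a
  add_mem' := fun hu hv a ha => o.orth_add (hu a ha) (hv a ha)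
  neg_mem' := fun hu a ha => o.orth_neg (hu a ha)

theorem OddSit.perp_anti {A B : AddSubgroup V} (h : A ≤ B) : o.perp B ≤ o.perp A := fun _ hv a ha => hv a (h ha)

theorem OddSit.perp_disjoint (A : AddSubgroup V) : ∀ v ∈ A, v ∈ o.perp A → v = 0 := fun v h1 h2 => o.self (h2 v h1)

theorem OddSit.le_perp_perp (A : AddSubgroup V) : A ≤ o.perp (o.perp A) := fun _ ha _ hv => o.symm (hv _ ha)

theorem OddSit.perp_stable {A : AddSubgroup V} {g : H} (hg : ∀ a ∈ A, φ g a ∈ A) {v : V} (hv : v ∈ o.perp A) :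
    φ g v ∈ o.perp A := by
  intro a ha
  obtain ⟨b, hb⟩ : ∃ b : A, φ g (b : V) = a := by
    have hinj : Function.Injective fun b : A => (⟨φ g b, hg b b.2⟩ : A) := fun b b' h =>
      Subtype.ext (act_inj g (congrArg Subtype.val h))
    obtain ⟨b, hb⟩ := (Finite.injective_iff_surjective.1 hinj) ⟨a, ha⟩
    exact ⟨b, congrArg Subtype.val hb⟩
  rw [← hb]
  exact (hv b b.2).map g

/-- elements fixing `A` move vectors only inside `A`'s orthogonal -/
theorem OddSit.im_le_perp {A : AddSubgroup V} (hA : A ⊔ o.perp A = ⊤) {g : H} (hg : A ≤ fixV φ g) :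
    imV φ g ≤ o.perp A := by
  rintro c ⟨x, rfl⟩
  have hx := AddSubgroup.mem_top x
  rw [← hA] at hx
  obtain ⟨a, ha, u, hu, rfl⟩ := AddSubgroup.mem_sup.1 hx
  rw [dlt_apply, map_add, mem_fixV.1 (hg ha), add_sub_add_left_eq_sub]
  refine sub_mem (o.perp_stable (fun b hb => ?_) hu) hu
  rw [mem_fixV.1 (hg hb)]; exact hb

variable {h : H} (m : Mx φ h)
include m

theorem OddSit.orth_im_fix {c a : V} (hc : c ∈ imV φ h) (ha : a ∈ fixV φ h) : Orth φ a c :=
  ⟨h, mem_fixV.1 ha, m.neg_im o.bin o.inj hc⟩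

theorem OddSit.im_inf_fix {c : V} (h1 : c ∈ imV φ h) (h2 : c ∈ fixV φ h) : c = 0 :=
  o.self (o.orth_im_fix m h1 h2)

theorem OddSit.fix_of_orth {c : V} (hc : c ∈ imV φ h) (hc0 : c ≠ 0) {u : V} (hu : Orth φ u c) : u ∈ fixV φ h := by
  rw [o.orth_iff _ hc0] at hu
  obtain ⟨x, hx⟩ := mem_imV.1 hc
  rwa [← m.eq_fix (o.bin.tel_ne hc0 hx) (o.bin.fix_le_tel hx)] at hu

variable {h' : H} (m' : Mx φ h') (hne : h ≠ h')
include m' hne

theorem OddSit.sup_le_perp : imV φ h ⊔ imV φ h' ≤ o.perp (fixV φ h ⊓ fixV φ h') :=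
  sup_le (fun _ hc _ ha => o.symm (o.orth_im_fix m hc ha.1)) fun _ hc _ ha => o.symm (o.orth_im_fix m' hc ha.2)

theorem OddSit.card_sup : Nat.card ↥(imV φ h ⊔ imV φ h') = Nat.card (imV φ h) * Nat.card (imV φ h) := by
  rw [card_sup_disjoint (m.disjoint o.bin o.inj m' hne), m'.card_im_eq m]

theorem OddSit.card_inter :
    Nat.card ↥(fixV φ h ⊓ fixV φ h') * Nat.card (imV φ h) * Nat.card (imV φ h) = Nat.card V := by
  refine le_antisymm ?_ ?_
  · rw [mul_assoc, ← o.card_sup m m' hne]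
    exact card_mul_le fun v hv hv' => o.perp_disjoint _ v hv (o.sup_le_perp m m' hne hv')
  · calc Nat.card V = Nat.card (fixV φ h) * Nat.card (imV φ h) := (card_fix_mul_im h).symm
      _ ≤ Nat.card ↥(fixV φ h ⊓ fixV φ h') * Nat.card (imV φ h') * Nat.card (imV φ h) :=
        Nat.mul_le_mul_right _ (card_restrict (fixV φ h) h')
      _ = _ := by rw [m'.card_im_eq m]

theorem OddSit.perp_inter : o.perp (fixV φ h ⊓ fixV φ h') = imV φ h ⊔ imV φ h' := by
  refine (AddSubgroup.eq_of_le_of_card_ge (o.sup_le_perp m m' hne) ?_).symm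
  have h1 := card_mul_le (o.perp_disjoint (fixV φ h ⊓ fixV φ h'))
  rw [← o.card_inter m m' hne, mul_assoc, ← o.card_sup m m' hne] at h1
  exact Nat.le_of_mul_le_mul_left h1 Nat.card_pos

theorem OddSit.inter_sup : (fixV φ h ⊓ fixV φ h') ⊔ o.perp (fixV φ h ⊓ fixV φ h') = ⊤ := by
  refine sup_eq_of_card (o.perp_disjoint _) le_top le_top ?_
  rw [AddSubgroup.card_top, o.perp_inter m m' hne, o.card_sup m m' hne, ← mul_assoc, o.card_inter m m' hne]

theorem OddSit.im_le_pair {g : H} (hg : fixV φ h ⊓ fixV φ h' ≤ fixV φ g) : imV φ g ≤ imV φ h ⊔ imV φ h' := by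
  rw [← o.perp_inter m m' hne]
  exact o.im_le_perp (o.inter_sup m m' hne) hg

theorem OddSit.mx_of_fix {g : H} (hg1 : g ≠ 1) (hg : fixV φ h ⊓ fixV φ h' ≤ fixV φ g) {v : V}
    (hv : v ∈ fixV φ g) (hv' : v ∉ fixV φ h ⊓ fixV φ h') : Mx φ g := by
  have hle := o.im_le_pair m m' hne hg
  have key : ∀ k, Mx φ k → imV φ k ≤ imV φ h ⊔ imV φ h' → v ∉ fixV φ k → Mx φ g := fun k mk hk hvk => by
    have h1 := AddSubgroup.card_le_of_le (sup_le hle hk)
    rw [card_sup_disjoint (mk.disjoint_of_not_le o.bin fun h2 => hvk (h2 hv)), o.card_sup m m' hne,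
      mk.card_im_eq m] at h1
    exact m.of_im_le hg1 (Nat.le_of_mul_le_mul_right h1 Nat.card_pos)
  by_cases h1 : v ∈ fixV φ h
  · exact key h' m' le_sup_right fun h2 => hv' ⟨h1, h2⟩
  · exact key h m le_sup_left h1

/-- every vector of the plane of a non-commuting pair is in the image of a maximal element -/
theorem OddSit.cover (hnc : h * h' ≠ h' * h) {c : V} (hc : c ∈ imV φ h ⊔ imV φ h') (hc0 : c ≠ 0) :
    Mx φ (o.bin.tel c) ∧ c ∈ imV φ (o.bin.tel c) := by
  set g := h * h' with hg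
  have hfix : fixV φ g = fixV φ h ⊓ fixV φ h' := fixV_mul (m.disjoint o.bin o.inj m' hne)
  have him : imV φ g = imV φ h ⊔ imV φ h' := by
    refine AddSubgroup.eq_of_le_of_card_ge (imV_mul_le h h') (le_of_eq ?_)
    refine Nat.eq_of_mul_eq_mul_left (n := Nat.card (fixV φ g)) Nat.card_pos ?_
    rw [card_fix_mul_im, hfix, o.card_sup m m' hne, ← mul_assoc, o.card_inter m m' hne]
  obtain ⟨x, hx⟩ := mem_imV.1 (him ▸ hc)
  have hck : c ∈ imV φ (o.bin.tel c) := mem_imV.2 ⟨x, o.bin.tel_spec hx⟩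
  refine ⟨?_, hck⟩
  have hFk : fixV φ h ⊓ fixV φ h' ≤ fixV φ (o.bin.tel c) := hfix.ge.trans (o.bin.fix_le_tel hx)
  by_cases hmore : fixV φ (o.bin.tel c) ≤ fixV φ h ⊓ fixV φ h'
  swap
  · obtain ⟨v, hv, hv'⟩ := SetLike.not_le_iff_exists.1 hmore
    exact o.mx_of_fix m m' hne (o.bin.tel_ne hc0 hx) hFk hv hv'
  exfalso
  obtain ⟨y, hy⟩ := mem_imV.1 (show c ∈ imV φ g⁻¹ by rw [imV_inv, him]; exact hc)
  have hxy : x - y ∈ fixV φ g := by
    rw [hfix]; refine hmore ?_
    rw [mem_fixV, map_sub, o.bin.tel_spec hx, o.bin.tel_spec hy]; abel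
  have hgy : φ g y = y + c := by
    rw [mem_fixV, map_sub, hx] at hxy
    calc φ g y = x + c - (x + c - φ g y) := by abel
      _ = x + c - (x - y) := by rw [hxy]
      _ = y + c := by abel
  have hg2y : φ (g * g) y = y := by
    rw [act_mul, hgy, ← hy, act_cancel_inv]
  by_cases hyF : y ∈ fixV φ h ⊓ fixV φ h'
  · rw [← hfix, mem_fixV, hgy, add_eq_left] at hyF
    exact hc0 hyF
  have hinv : g⁻¹ = h' * h := by rw [mul_inv_rev, m.inv_eq o.bin o.inj, m'.inv_eq o.bin o.inj]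
  have hg21 : g * g ≠ 1 := fun he => hnc (by rw [← hinv]; exact (inv_eq_of_mul_eq_one_right he).symm)
  have mg : Mx φ (g * g) := o.mx_of_fix m m' hne hg21
    (fun v (hv : v ∈ fixV φ h ⊓ fixV φ h') => by
      rw [mem_fixV, act_mul, mem_fixV.1 (hfix.ge hv), mem_fixV.1 (hfix.ge hv)]) (mem_fixV.2 hg2y) hyF
  have hgg : g * g * (g * g) = 1 := mg.sq_one o.bin o.inj
  have e1 : h * g * h = g⁻¹ := by
    rw [hinv, hg, ← mul_assoc, m.sq_one o.bin o.inj, one_mul]
  have e1' : h' * g * h' = g⁻¹ := by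
    rw [hinv, hg, mul_assoc, mul_assoc, m'.sq_one o.bin o.inj, mul_one]
  have key : ∀ k, Mx φ k → k * g * k = g⁻¹ → imV φ (g * g) ≤ fixV φ k := fun k mk hk => by
    refine mk.im_le_fix o.bin o.inj mg (fun he => ?_) ?_
    · subst he
      refine hg21 (inv_eq_iff_mul_eq_one.1 ?_)
      calc g⁻¹ = g * g * g * (g * g) := hk.symm
        _ = g * (g * g * (g * g)) := by group
        _ = g := by rw [hgg, mul_one]
    · calc k * (g * g) = k * g * k * (k * g * k) * k := by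
            have hkk := mk.sq_one o.bin o.inj
            calc k * (g * g) = k * g * (k * k) * g * (k * k) := by rw [hkk]; simp [mul_assoc]
              _ = k * g * k * (k * g * k) * k := by simp only [mul_assoc]
        _ = g * g * k := by rw [hk, ← mul_inv_rev, inv_eq_of_mul_eq_one_right hgg]
  obtain ⟨d, hd, hd0⟩ := mg.exists_moved o.inj
  refine hd0 (o.perp_disjoint (fixV φ h ⊓ fixV φ h') d ⟨key h m e1 hd, key h' m' e1' hd⟩ ?_)
  rw [o.perp_inter m m' hne, ← him]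
  exact ((imV_mul_le g g).trans (sup_le le_rfl le_rfl)) hd

end Cfsg.Lib.BinaryAffine
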