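import Cfsg.Agent.BinaryAffine.Irred
import Mathlib.Tactic.Ring

/-!
Binary linear groups whose largest fixed spaces equal the images: the rotations.
-/

set_option autoImplicit false
set_option linter.unusedSectionVars false

namespace Cfsg.Lib.BinaryAffine

variable {H : Type*} [Group H] [Finite H] {V : Type*} [AddCommGroup V] [Finite V]
variable {φ : H →* AddMonoid.End V}

/-- a planar situation -/
structure Plane (φ : H →* AddMonoid.End V) (h : H) : Prop where
  bin : Bin φ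
  inj : Function.Injective φ
  mx : Mx φ h
  ne : fixV φ h ≠ ⊥
  small : Nat.card (fixV φ h) = Nat.card (imV φ h)
  mx_all : ∀ g : H, g ≠ 1 → fixV φ g ≠ ⊥ → Mx φ g
  noncomm : ∃ k, Mx φ k ∧ h * k ≠ k * h

variable {h : H} (P : Plane φ h)
include P

theorem Plane.mx_fix_ne {g : H} (m : Mx φ g) : fixV φ g ≠ ⊥ := fun he => P.ne (by
  have h1 := m.card_eq P.mx
  rw [he, AddSubgroup.card_bot] at h1
  exact AddSubgroup.eq_bot_of_card_eq _ h1.symm)

theorem Plane.h_mul_fpf {k g : H} (mk : Mx φ k) (hg : fixV φ g = ⊥) : fixV φ (k * g) ≠ ⊥ := by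
  obtain ⟨c, hc, hc0⟩ := mk.exists_moved P.inj
  have him : imV φ g = ⊤ := by
    refine AddSubgroup.eq_of_le_of_card_ge le_top ?_
    rw [AddSubgroup.card_top, ← card_fix_mul_im (φ := φ) g, hg, AddSubgroup.card_bot, one_mul]
  obtain ⟨x, hx⟩ := mem_imV.1 (him ▸ AddSubgroup.mem_top c)
  rcases mk.uniq P.bin (g := g) (x := x) (by rw [hx, add_sub_cancel_left]; exact hc) with h1 | h1
  · rw [hx, add_eq_left] at h1; exact absurd h1 hc0
  · intro he
    have h2 : x ∈ fixV φ (k * g) := mem_fixV.2 (by rw [act_mul, h1, mk.act_act P.bin P.inj])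
    rw [he, AddSubgroup.mem_bot] at h2
    rw [h2, map_zero, zero_add] at hx
    exact hc0 hx.symm

theorem Plane.fpf_ne_one {g : H} (hg : fixV φ g = ⊥) : g ≠ 1 := fun he => P.ne (eq_bot_iff.2 (by
  rw [← hg, he]; exact fun v _ => mem_fixV.2 (act_one v)))

theorem Plane.inv_fpf {g : H} (hg : fixV φ g = ⊥) : h * g * h = g⁻¹ := by
  have hne : h * g ≠ 1 := fun he => by
    have h1 : g = h := by rw [← inv_eq_of_mul_eq_one_right he, P.mx.inv_eq P.bin P.inj]
    exact P.ne (h1 ▸ hg)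
  have m := P.mx_all _ hne (P.h_mul_fpf P.mx hg)
  refine eq_inv_of_mul_eq_one_left ?_
  rw [mul_assoc (h * g)]
  exact m.sq_one P.bin P.inj

theorem Plane.rot_mul {a b : H} (ha : fixV φ a = ⊥) (hb : fixV φ b = ⊥) : a * b = 1 ∨ fixV φ (a * b) = ⊥ := by
  by_contra hcon
  push Not at hcon
  have m := P.mx_all _ hcon.1 hcon.2
  refine P.h_mul_fpf m (g := b⁻¹) (by rw [fixV_inv]; exact hb) ?_
  rw [mul_inv_cancel_right]
  exact ha

/-- the rotations -/
def Plane.rot : Subgroup H where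
  carrier := {g | g = 1 ∨ fixV φ g = ⊥}
  one_mem' := Or.inl rfl
  mul_mem' := by
    rintro a b (rfl | ha) (rfl | hb)
    · exact Or.inl (one_mul 1)
    · exact Or.inr (by rwa [one_mul])
    · exact Or.inr (by rwa [mul_one])
    · exact P.rot_mul ha hb
  inv_mem' := by
    rintro a (rfl | ha)
    · exact Or.inl inv_one
    · exact Or.inr (by rwa [fixV_inv])

theorem Plane.mem_rot {g : H} : g ∈ P.rot ↔ g = 1 ∨ fixV φ g = ⊥ := Iff.rfl

theorem Plane.h_not_rot : h ∉ P.rot := fun hm => hm.elim P.mx.1 P.ne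

theorem Plane.inv_rot {g : H} (hg : g ∈ P.rot) : h * g * h = g⁻¹ := by
  rcases hg with rfl | hg
  · rw [mul_one, P.mx.sq_one P.bin P.inj, inv_one]
  · exact P.inv_fpf hg

theorem Plane.rot_comm {a b : H} (ha : a ∈ P.rot) (hb : b ∈ P.rot) : a * b = b * a := by
  have hh := P.mx.sq_one P.bin P.inj
  have h1 : h * (a * b) * h = (a * b)⁻¹ := P.inv_rot (mul_mem ha hb)
  rw [show h * (a * b) * h = (h * a * h) * (h * b * h) by
    simp only [mul_assoc]; rw [← mul_assoc h h, hh, one_mul], P.inv_rot ha, P.inv_rot hb, ← mul_inv_rev] at h1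
  exact (inv_inj.1 h1).symm

theorem Plane.mul_h_rot {z : H} (mz : Mx φ z) : h * z ∈ P.rot := by
  by_contra hcon
  rw [P.mem_rot, not_or] at hcon
  have mi := P.mx_all _ hcon.1 hcon.2
  have hzh : h ≠ z := fun e => hcon.1 (by rw [← e, P.mx.sq_one P.bin P.inj])
  have hih : h ≠ h * z := fun e => mz.1 (left_eq_mul.1 e)
  have hhh := P.mx.sq_one P.bin P.inj
  have hc : h * z = z * h := by
    rw [← mi.inv_eq P.bin P.inj, mul_inv_rev, mz.inv_eq P.bin P.inj, P.mx.inv_eq P.bin P.inj]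
  have hW : ∀ k, Mx φ k → h ≠ k → h * k = k * h → imV φ k = fixV φ h := fun k mk hne hck =>
    AddSubgroup.eq_of_le_of_card_ge (P.mx.im_le_fix P.bin P.inj mk hne hck) (by rw [P.small, P.mx.card_im_eq mk])
  obtain ⟨c, hc', hc0⟩ := mz.exists_moved P.inj
  have e := mz.eq_of_meet P.bin P.inj mi hc0 hc' (by
    rw [hW _ mi hih (by rw [← mul_assoc, hhh, one_mul, mul_assoc, ← hc, ← mul_assoc, hhh, one_mul])]
    rw [← hW _ mz hzh hc]
    exact hc')
  exact P.mx.1 (mul_eq_right.1 e.symm)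

theorem Plane.cases (z : H) : z ∈ P.rot ∨ h * z ∈ P.rot := by
  by_cases h1 : z = 1
  · exact Or.inl (Or.inl h1)
  by_cases h2 : fixV φ z = ⊥
  · exact Or.inl (Or.inr h2)
  exact Or.inr (P.mul_h_rot (P.mx_all z h1 h2))

theorem Plane.exists_rot : ∃ g, fixV φ g = ⊥ ∧ g * g ≠ 1 := by
  obtain ⟨k, mk, hk⟩ := P.noncomm
  have hg2 : (h * k) * (h * k) ≠ 1 := fun he => hk (by
    rw [← inv_eq_of_mul_eq_one_right he, mul_inv_rev, mk.inv_eq P.bin P.inj, P.mx.inv_eq P.bin P.inj])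
  rcases P.mul_h_rot mk with h1 | h1
  · exact absurd (by rw [h1, one_mul]) hg2
  · exact ⟨_, h1, hg2⟩

/-- every nonzero vector is in the image of a maximal element -/
theorem Plane.cover {c : V} (hc : c ≠ 0) : ∃ k, Mx φ k ∧ c ∈ imV φ k := by
  obtain ⟨g, hg, hg2⟩ := P.exists_rot
  have him : ∀ g : H, fixV φ g = ⊥ → imV φ g = ⊤ := fun g hg => by
    refine AddSubgroup.eq_of_le_of_card_ge le_top ?_
    rw [AddSubgroup.card_top, ← card_fix_mul_im (φ := φ) g, hg, AddSubgroup.card_bot, one_mul]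
  obtain ⟨x, hx⟩ := mem_imV.1 (him g hg ▸ AddSubgroup.mem_top c)
  obtain ⟨y, hy⟩ := mem_imV.1 (him g⁻¹ (by rw [fixV_inv]; exact hg) ▸ AddSubgroup.mem_top c)
  refine ⟨P.bin.tel c, P.mx_all _ (P.bin.tel_ne hc hx) (fun hk => ?_), mem_imV.2 ⟨x, P.bin.tel_spec hx⟩⟩
  have hxy : x = y := by
    rw [← sub_eq_zero, ← AddSubgroup.mem_bot, ← hk, mem_fixV, map_sub, P.bin.tel_spec hx, P.bin.tel_spec hy]
    abel
  subst hxy
  have h2 : x ∈ fixV φ (g * g) := mem_fixV.2 (by rw [act_mul, hx, ← hy, act_cancel_inv])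
  rcases P.rot_mul hg hg with h3 | h3
  · exact hg2 h3
  · rw [h3, AddSubgroup.mem_bot] at h2
    rw [h2, map_zero, zero_add] at hx
    exact hc hx.symm

theorem Plane.card_V : Nat.card V = Nat.card (imV φ h) * Nat.card (imV φ h) := by
  rw [← card_fix_mul_im (φ := φ) h, P.small]

theorem Plane.one_lt : 1 < Nat.card (imV φ h) := by
  obtain ⟨c, hc, hc0⟩ := P.mx.exists_moved P.inj
  by_contra hle
  have : Subsingleton (imV φ h) := (Finite.card_le_one_iff_subsingleton).1 (not_lt.1 hle)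
  exact hc0 (congrArg Subtype.val (Subsingleton.elim (⟨c, hc⟩ : imV φ h) 0))

theorem Plane.card_rot : Nat.card P.rot = Nat.card (imV φ h) + 1 := by
  classical
  haveI := Fintype.ofFinite H
  haveI := Fintype.ofFinite V
  let S := {k : H // Mx φ k}
  have e1 : Nat.card P.rot = Nat.card S := Nat.card_congr
    { toFun := fun g => ⟨h * g, by
        refine P.mx_all _ (fun he => P.h_not_rot ?_) ?_
        · have hg' : (g : H)⁻¹ ∈ P.rot := inv_mem g.2
          rw [P.mem_rot] at hg' ⊢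
          rwa [← eq_inv_of_mul_eq_one_left he] at hg'
        · rcases g.2 with h1 | h1
          · rw [h1, mul_one]; exact P.ne
          · exact P.h_mul_fpf P.mx h1⟩
      invFun := fun k => ⟨h * k, P.mul_h_rot k.2⟩
      left_inv := fun g => Subtype.ext (by
        show h * (h * (g : H)) = g
        rw [← mul_assoc, P.mx.sq_one P.bin P.inj, one_mul])
      right_inv := fun k => Subtype.ext (by
        show h * (h * (k : H)) = k
        rw [← mul_assoc, P.mx.sq_one P.bin P.inj, one_mul]) }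
  let f : (Σ k : S, {c : imV φ (k : H) // c ≠ 0}) → {c : V // c ≠ 0} := fun kc =>
    ⟨kc.2.1, fun h0 => kc.2.2 (Subtype.ext h0)⟩
  have hf : Function.Bijective f := by
    constructor
    · rintro ⟨k, ⟨⟨c, hc⟩, hc0⟩⟩ ⟨k', ⟨⟨c', hc'⟩, hc0'⟩⟩ he
      obtain rfl : c = c' := congrArg Subtype.val he
      obtain rfl : k = k' := Subtype.ext
        (k.2.eq_of_meet P.bin P.inj k'.2 (fun h0 => hc0 (Subtype.ext h0)) hc hc')
      rfl
    · rintro ⟨c, hc0⟩
      obtain ⟨k, mk, hck⟩ := P.cover hc0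
      exact ⟨⟨⟨k, mk⟩, ⟨⟨c, hck⟩, fun h0 => hc0 (congrArg Subtype.val h0)⟩⟩, rfl⟩
  have h1 := Nat.card_congr (Equiv.ofBijective f hf)
  rw [Nat.card_sigma] at h1
  have hne0 : ∀ k : S, Nat.card {c : imV φ (k : H) // c ≠ 0} = Nat.card (imV φ h) - 1 := fun k => by
    rw [Nat.card_eq_fintype_card, Fintype.card_subtype_compl, Fintype.card_subtype_eq, ← Nat.card_eq_fintype_card,
      k.2.card_im_eq P.mx]
  have hne1 : Nat.card {c : V // c ≠ 0} = Nat.card V - 1 := by
    rw [Nat.card_eq_fintype_card, Fintype.card_subtype_compl, Fintype.card_subtype_eq, ← Nat.card_eq_fintype_card]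
  simp only [hne0, hne1, Finset.sum_const, Finset.card_univ, smul_eq_mul, ← Nat.card_eq_fintype_card, P.card_V] at h1
  have hq := P.one_lt
  rw [e1]
  refine Nat.eq_of_mul_eq_mul_right (m := Nat.card (imV φ h) - 1) (by omega) ?_
  rw [h1]
  obtain ⟨r, hr⟩ : ∃ r, Nat.card (imV φ h) = r + 1 := ⟨Nat.card (imV φ h) - 1, by omega⟩
  rw [hr]
  calc (r + 1) * (r + 1) - 1 = (r * r + 2 * r + 1) - 1 := by ring_nf
    _ = r * r + 2 * r := Nat.add_sub_cancel _ _
    _ = (r + 1 + 1) * (r + 1 - 1) := by rw [Nat.add_sub_cancel]; ring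

/-- the rotations leave no subgroup invariant -/
theorem Plane.rot_irr (A : AddSubgroup V) (hA : ∀ g ∈ P.rot, ∀ v ∈ A, φ g v ∈ A) : A = ⊥ ∨ A = ⊤ := by
  classical
  haveI := Fintype.ofFinite V
  haveI := Fintype.ofFinite H
  let N := Nat.card P.rot
  have hdiv : N ∣ Nat.card A - 1 := by
    letI : MulAction P.rot {c : A // c ≠ 0} :=
      { smul := fun g c => ⟨⟨φ (g : H) (c.1 : V), hA g g.2 _ c.1.2⟩, fun h0 => c.2 (Subtype.ext
          (act_inj (g : H) (by rw [show (φ (g : H)) (c.1 : V) = 0 from congrArg Subtype.val h0, ZeroMemClass.coe_zero,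
            map_zero])))⟩
        one_smul := fun c => Subtype.ext (Subtype.ext (act_one (c.1 : V)))
        mul_smul := fun g g' c => Subtype.ext (Subtype.ext (act_mul (g : H) g' (c.1 : V))) }
    have horb : ∀ c : {c : A // c ≠ 0}, Nat.card (MulAction.orbit P.rot c) = N := fun c => by
      refine Nat.card_congr (Equiv.ofBijective (fun g : P.rot => (⟨g • c, g, rfl⟩ : MulAction.orbit P.rot c))
        ⟨fun g g' hgg => ?_, fun ⟨_, g, rfl⟩ => ⟨g, rfl⟩⟩).symm
      have h1 : φ (g : H) (c.1 : V) = φ (g' : H) (c.1 : V) :=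
        congrArg (fun t : {c : A // c ≠ 0} => (t.1 : V)) (congrArg Subtype.val hgg)
      have h2 : (c.1 : V) ∈ fixV φ ((g' : H)⁻¹ * g) := mem_fixV.2 (by rw [act_mul, h1, act_inv_cancel])
      rcases (P.rot.mul_mem (inv_mem g'.2) g.2) with h3 | h3
      · exact Subtype.ext (inv_mul_eq_one.1 h3).symm
      · rw [h3, AddSubgroup.mem_bot] at h2
        exact absurd (Subtype.ext h2) c.2
    haveI := Fintype.ofFinite (Quotient (MulAction.orbitRel P.rot {c : A // c ≠ 0}))
    have h1 := Nat.card_congr (MulAction.selfEquivSigmaOrbits P.rot {c : A // c ≠ 0})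
    rw [Nat.card_sigma, Finset.sum_congr rfl fun x _ => horb _, Finset.sum_const, Finset.card_univ, smul_eq_mul,
      Nat.card_eq_fintype_card, Fintype.card_subtype_compl, Fintype.card_subtype_eq, ← Nat.card_eq_fintype_card] at h1
    exact h1 ▸ Dvd.intro_left _ rfl
  have hAV : Nat.card A ∣ Nat.card V := AddSubgroup.card_addSubgroup_dvd_card A
  obtain ⟨r, hr⟩ := hAV
  have hN : N = Nat.card (imV φ h) + 1 := P.card_rot
  have hV := P.card_V
  have hq := P.one_lt
  set q := Nat.card (imV φ h)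
  have hA0 : 0 < Nat.card A := Nat.card_pos
  have hr0 : 0 < r := Nat.pos_of_ne_zero fun e => by
    rw [e, mul_zero, hV] at hr
    nlinarith
  -- both factors are congruent to one
  have hA1 : Nat.card A ≡ 1 [MOD q + 1] := ((Nat.modEq_iff_dvd' hA0).2 (hN ▸ hdiv)).symm
  have hq2 : q * q ≡ 1 [MOD q + 1] := by
    refine ((Nat.modEq_iff_dvd' (by nlinarith)).2 ⟨q - 1, ?_⟩).symm
    rw [← Nat.sq_sub_sq q 1 |>.trans rfl]
    simp [pow_two]
  have hr1 : r ≡ 1 [MOD q + 1] :=
    calc r = 1 * r := (one_mul r).symm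
      _ ≡ Nat.card A * r [MOD q + 1] := Nat.ModEq.mul_right r hA1.symm
      _ = q * q := hr.symm.trans hV
      _ ≡ 1 [MOD q + 1] := hq2
  have hbig : ∀ a, 1 < a → a ≡ 1 [MOD q + 1] → q + 2 ≤ a := fun a ha ha1 => by
    have h1 := Nat.le_of_dvd (by omega) ((Nat.modEq_iff_dvd' ha.le).1 ha1.symm)
    omega
  by_cases hA1' : Nat.card A ≤ 1
  · left
    exact AddSubgroup.eq_bot_of_card_le _ hA1'
  right
  refine AddSubgroup.eq_top_of_card_eq _ ?_
  by_cases hr1' : r ≤ 1
  · rw [hr, show r = 1 by omega, mul_one]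
  · have h1 := hbig _ (not_le.1 hA1') hA1
    have h2 := hbig _ (not_le.1 hr1') hr1
    rw [hV] at hr
    nlinarith [Nat.mul_le_mul h1 h2]

end Cfsg.Lib.BinaryAffine
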